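import Cfsg.Agent.Lib.Bender.Dichotomy.Main
import Cfsg.Agent.Lib.Bender.Gen.Final
import Cfsg.Agent.Lib.Transfer.ThompsonTransfer
import Cfsg.Agent.Lib.Components.CharTwoLocal
import Cfsg.Agent.Lib.Signalizer.PComponents
import Cfsg.Prelude.Def_CaseTheorems

/-!
Owner: helper14. The dichotomy theorem: a core-free group of 2-rank at least three, not of component type,
in which every involution centralises an elementary subgroup of order eight is of characteristic 2 type.
-/

set_option autoImplicit false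
set_option linter.style.haveILetI false
set_option linter.unusedSectionVars false

namespace CfsgLib.Bender.Dichotomy

open Subgroup CfsgLib.Signalizer

universe u

local instance factTwoApps : Fact (Nat.Prime 2) := ⟨Nat.prime_two⟩

variable {G : Type u} [Group G] [Finite G]

/-- An involution centralising a normal four-group lies in an elementary subgroup of order eight. -/
theorem bigPt_of_centralize {x : G} (hx : orderOf x = 2) {E : Subgroup G} (hE : Eight E) {U S : Subgroup G}
    (hU : Cfsg.IsElementaryAbelian 2 U) (hU4 : Nat.card U = 4) (hES : E ≤ S)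
    (hUi : (centralizer (U : Set G)).relIndex S ≤ 2) (hxU : x ∈ centralizer (U : Set G)) : Gen.BigPt 2 x := by
  by_cases hxm : x ∈ U
  · have hA4 : 4 ≤ Nat.card ↥(E ⊓ centralizer (U : Set G)) := four_le_inf hUi hE hES
    have hel := Gen.elementary_sup hU
      (elementary_of_le hE.1 (inf_le_left : E ⊓ centralizer (U : Set G) ≤ E)) inf_le_right
    by_cases hUA : E ⊓ centralizer (U : Set G) ≤ U
    · have heq : E ⊓ centralizer (U : Set G) = U := eq_of_le_of_card_ge hUA (by omega)
      exact Gen.bigPt_of_mem hE.1 hE.2 (heq.ge hxm).1 (ne_one_of_orderOf_two hx)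
    · have h8 := eight_of_lt hel (lt_of_le_not_ge le_sup_left fun hle => hUA (le_sup_right.trans hle)) hU4.ge
      exact Gen.bigPt_of_mem h8.1 h8.2 (mem_sup_left hxm) (ne_one_of_orderOf_two hx)
  · have h8 := eight_sup_zpowers hU hU4.ge (sq_of_orderOf_two hx) (mem_centralizer_iff.mp hxU) hxm
    exact Gen.bigPt_of_mem h8.1 h8.2 (mem_sup_right (mem_zpowers x)) (ne_one_of_orderOf_two hx)

theorem bigPt_conj {x : G} (g : G) (h : Gen.BigPt 2 (g * x * g⁻¹)) : Gen.BigPt 2 x := by
  obtain ⟨ho, hr⟩ := h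
  rw [orderOf_conj] at ho
  obtain ⟨B, hBC, hB, hB8⟩ := Gen.exists_three_of_not_rankLE hr
  have hel := elem_sup_zpowers (cj_elem (g := g⁻¹) hB) (sq_of_orderOf_two ho) fun b hb => by
    rw [mem_cj, inv_inv] at hb
    have h1 := mem_centralizer_singleton_iff.mp (hBC hb)
    refine mul_left_cancel (a := g) (mul_right_cancel (b := g⁻¹) ?_)
    calc g * (b * x) * g⁻¹ = g * b * g⁻¹ * (g * x * g⁻¹) := by group
      _ = g * x * g⁻¹ * (g * b * g⁻¹) := h1
      _ = _ := by group
  exact Gen.bigPt_of_mem hel ((hB8.trans_eq (card_cj g⁻¹ B).symm).trans (card_le_of_le le_sup_left))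
    (mem_sup_right (mem_zpowers x)) (ne_one_of_orderOf_two ho)

/-- A Sylow 2-subgroup with a given element and an elementary subgroup of order eight. -/
theorem exists_sylow_eight (hrk : ¬ Cfsg.PRankLE 2 2 G) {x : G} (hx : orderOf x = 2) :
    ∃ (S : Sylow 2 G) (E : Subgroup G), x ∈ (S : Subgroup G) ∧ Eight E ∧ E ≤ (S : Subgroup G) := by
  unfold Cfsg.PRankLE at hrk
  push Not at hrk
  obtain ⟨B, hBc, hBe, hB⟩ := hrk
  have hB2 : Cfsg.IsElementaryAbelian 2 B := ⟨hBc, hBe⟩
  have hB8 : Eight B := by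
    refine ⟨hB2, ?_⟩
    obtain ⟨k, hk⟩ := (elementary_isPGroup hB2).exists_card_eq
    rw [hk] at hB ⊢
    exact le_trans (by norm_num) (Nat.pow_le_pow_right two_pos ((Nat.pow_lt_pow_iff_right (le_refl 2)).mp hB))
  obtain ⟨S, hS⟩ := (elementary_isPGroup (elem_zpowers (sq_of_orderOf_two hx))).exists_le_sylow
  obtain ⟨S', hS'⟩ := (elementary_isPGroup hB2).exists_le_sylow
  obtain ⟨g, hg⟩ := MulAction.exists_smul_eq G S' S
  refine ⟨S, cj g B, hS (mem_zpowers x), cj_eight hB8, cj_le_iff.mpr fun b hb => ?_⟩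
  rw [← hg]
  exact ⟨b, hS' hb, rfl⟩

/-- Without a subgroup of index two, every involution centralises an elementary subgroup of order eight. -/
theorem bigPt_of_no_index_two (hrk : ¬ Cfsg.PRankLE 2 2 G)
    (hO2 : ∀ N : Subgroup G, N.Normal → N.index ≠ 2) {x : G} (hx : orderOf x = 2) : Gen.BigPt 2 x := by
  obtain ⟨S, E, hxS, hE, hES⟩ := exists_sylow_eight hrk hx
  obtain ⟨U, hUS, hU, hU4, hUn, hUi⟩ := exists_normalFour S.isPGroup' hE hES
  by_cases hxc : x ∈ centralizer (U : Set G)
  · exact bigPt_of_centralize hx hE hU hU4 hES hUi hxc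
  set Q := centralizer (U : Set G) ⊓ (S : Subgroup G) with hQ
  have h2 : Q.relIndex (S : Subgroup G) = 2 := by
    rw [hQ, inf_relIndex_right]
    have h0 : (centralizer (U : Set G)).relIndex (S : Subgroup G) ≠ 0 := Subgroup.index_ne_zero_of_finite
    have h1 : (centralizer (U : Set G)).relIndex (S : Subgroup G) ≠ 1 := fun e =>
      hxc (Subgroup.relIndex_eq_one.mp e hxS)
    omega
  rcases CfsgLib.Transfer.thompson_transfer S Q h2 hx with ⟨M, hM, hM2, -⟩ | ⟨g, hg⟩
  · exact absurd hM2 (hO2 M hM)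
  · exact bigPt_conj g (bigPt_of_centralize (by rw [orderOf_conj]; exact hx) hE hU hU4 hES hUi hg.1)

/-- With a connected four-group graph in a Sylow 2-subgroup, every involution centralises an elementary
subgroup of order eight. -/
theorem bigPt_of_fourConnected (hrk : ¬ Cfsg.PRankLE 2 2 G) (S : Sylow 2 G)
    (hS : Cfsg.IsFourConnected ↥(S : Subgroup G)) {y : G} (hy : orderOf y = 2) : Gen.BigPt 2 y := by
  obtain ⟨S', E', hyS, hE', hE'S⟩ := exists_sylow_eight hrk hy
  obtain ⟨g, hg⟩ := MulAction.exists_smul_eq G S' S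
  refine bigPt_conj g ?_
  set x := g * y * g⁻¹ with hxdef
  have hx : orderOf x = 2 := by rw [hxdef, orderOf_conj]; exact hy
  have hconj : ∀ e ∈ (S' : Subgroup G), g * e * g⁻¹ ∈ (S : Subgroup G) := fun e he => by
    rw [← hg]; exact ⟨e, he, rfl⟩
  have hxS : x ∈ (S : Subgroup G) := hconj y hyS
  have hE : Eight (cj g E') := cj_eight hE'
  have hES : cj g E' ≤ (S : Subgroup G) := cj_le_iff.mpr fun e he => hconj e (hE'S he)
  obtain ⟨U, hUS, hU, hU4, hUn, hUi⟩ := exists_normalFour S.isPGroup' hE hES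
  by_cases hxc : x ∈ centralizer (U : Set G)
  · exact bigPt_of_centralize hx hE hU hU4 hES hUi hxc
  -- an involution of `U` commuting with `x`
  obtain ⟨z, hzU, hz1, hzx⟩ : ∃ z ∈ U, z ≠ 1 ∧ z * x = x * z := by
    obtain ⟨u, hu, hux⟩ : ∃ u ∈ U, u * x ≠ x * u := by
      by_contra hh
      push Not at hh
      exact hxc (mem_centralizer_iff.mpr hh)
    have hu'U : x * u * x⁻¹ ∈ U := (mem_normalizer_iff.mp (hUn hxS) u).mp hu
    refine ⟨u * (x * u * x⁻¹), mul_mem hu hu'U, fun e => hux ?_, ?_⟩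
    · rw [mul_eq_one_iff_inv_eq, inv_eq_of_mul_eq_one_right (elem_sq hU hu)] at e
      exact eq_mul_inv_iff_mul_eq.mp e
    · refine (mul_inv_eq_iff_eq_mul.mp ?_).symm
      rw [show x * (u * (x * u * x⁻¹)) * x⁻¹ = (x * u * x⁻¹) * ((x * x) * u * (x * x)⁻¹) by group,
        sq_of_orderOf_two hx, inv_one, mul_one, one_mul]
      exact elementary_comm hU hu'U hu
  have hz2 : orderOf z = 2 := orderOf_two (elem_sq hU hzU) hz1
  have hxz : x ≠ z := fun e => hxc (mem_centralizer_iff.mpr fun a ha => elementary_comm hU ha (e ▸ hzU))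
  obtain ⟨hV, hV4⟩ := four_of_pair hx hz2 hxz hzx.symm
  set V := zpowers x ⊔ zpowers z with hVdef
  have hVcard : Nat.card V = 4 := by
    refine le_antisymm ?_ hV4
    have hn : zpowers x ≤ normalizer (zpowers z : Set G) :=
      zpowers_le.mpr (centralizer_le_normalizer _ (mem_centralizer_zpowers.mpr hzx.symm))
    refine (Nat.le_of_dvd (mul_pos Nat.card_pos Nat.card_pos) (CfsgLib.Core.card_sup_dvd _ _ hn)).trans ?_
    rw [Nat.card_zpowers, Nat.card_zpowers, hx, hz2]
    all_goals norm_num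
  have hVS : V ≤ (S : Subgroup G) := sup_le (zpowers_le.mpr hxS) (zpowers_le.mpr (hUS hzU))
  have hk : ∀ {A : Subgroup G}, Cfsg.IsElementaryAbelian 2 A → Nat.card A = 4 → A ≤ (S : Subgroup G) →
      IsKleinFour ↥(A.subgroupOf (S : Subgroup G)) := fun {A} hA h4 hle => by
    refine ⟨(Nat.card_congr (subgroupOfEquivOfLe hle).toEquiv).trans h4, ?_⟩
    rw [Monoid.exponent_eq_of_mulEquiv (subgroupOfEquivOfLe hle)]
    haveI : Nontrivial A := Finite.one_lt_card_iff_nontrivial.1 (by omega)
    exact Monoid.exponent_eq_prime_iff Nat.prime_two |>.mpr fun a ha => by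
      rw [← Subgroup.orderOf_coe]
      exact orderOf_two (elem_sq hA a.2) fun e => ha (Subtype.ext e)
  have hpath := hS _ _ (hk hV hVcard hVS) (hk hU hU4 hUS)
  -- a neighbour different from `V`
  have hstep : V.subgroupOf (S : Subgroup G) = U.subgroupOf (S : Subgroup G) ∨
      ∃ B : Subgroup ↥(S : Subgroup G), IsKleinFour B ∧ B ≠ V.subgroupOf (S : Subgroup G) ∧
        ∀ a ∈ V.subgroupOf (S : Subgroup G), ∀ b ∈ B, a * b = b * a := by
    generalize U.subgroupOf (S : Subgroup G) = U₁ at hpath ⊢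
    induction hpath with
    | refl => exact Or.inl rfl
    | tail _ hab ih =>
      rcases ih with h1 | h1
      · rename_i A B _
        by_cases hBA : B = A
        · exact Or.inl (h1.trans hBA.symm)
        · exact Or.inr ⟨B, hab.2.1, fun e => hBA (e.trans h1), h1 ▸ hab.2.2⟩
      · exact Or.inr h1
  rcases hstep with h1 | ⟨B, hB, hBV, hVB⟩
  · exfalso
    refine hxc (mem_centralizer_iff.mpr fun a ha => elementary_comm hU ha ?_)
    have : (⟨x, hxS⟩ : (S : Subgroup G)) ∈ U.subgroupOf (S : Subgroup G) :=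
      h1 ▸ mem_subgroupOf.mpr (mem_sup_left (mem_zpowers x))
    exact mem_subgroupOf.mp this
  have hBel : Cfsg.IsElementaryAbelian 2 (B.map (S : Subgroup G).subtype) := elem_of_sq (by
    rintro _ ⟨b, hb, rfl⟩
    rw [← map_mul]
    have := congrArg Subtype.val (IsKleinFour.mul_self (⟨b, hb⟩ : B))
    simp only [Subgroup.coe_mul, OneMemClass.coe_one] at this
    rw [this, map_one])
  have hsup := Gen.elementary_sup hV hBel (by
    rintro _ ⟨b, hb, rfl⟩
    exact mem_centralizer_iff.mpr fun a ha =>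
      congrArg Subtype.val (hVB ⟨a, hVS ha⟩ (mem_subgroupOf.mpr ha) b hb))
  have h8 := eight_of_lt hsup (lt_of_le_not_ge le_sup_left fun hle => hBV ?_) hV4
  · exact Gen.bigPt_of_mem h8.1 h8.2 (mem_sup_left (mem_sup_left (mem_zpowers x))) (ne_one_of_orderOf_two hx)
  · have hBle : B.map (S : Subgroup G).subtype ≤ V := le_sup_right.trans hle
    refine eq_of_le_of_card_ge (fun b hb => mem_subgroupOf.mpr (hBle ⟨b, hb, rfl⟩)) (le_of_eq ?_)
    rw [Nat.card_congr (subgroupOfEquivOfLe hVS).toEquiv, hVcard, hB.card_four]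

/-- Not of component type: the involution centralisers have trivial 2-layer. -/
theorem pLayer_of_not_componentType (hc : ¬ Cfsg.IsComponentType G) {x : G} (hx : orderOf x = 2) :
    Cfsg.pLayer 2 ↥(centralizer ({x} : Set G)) = ⊥ := by
  rw [CfsgLib.Signalizer.pLayer_eq_bot_iff, CfsgLib.Components.layer_eq_bot_iff]
  exact fun L hL => hc ⟨x, hx, L, hL⟩

/-- **Characteristic 2 type.** -/
theorem charTwoType (hrk : ¬ Cfsg.PRankLE 2 2 G) (hO : Cfsg.oddCore G = ⊥)
    (hc : ¬ Cfsg.IsComponentType G) (hbig : ∀ x : G, orderOf x = 2 → Gen.BigPt 2 x) :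
    Cfsg.IsCharacteristicTwoType G := by
  have h : Hyp G := ⟨hO, fun x hx => pLayer_of_not_componentType hc hx, hbig⟩
  refine ⟨?_, fun T hT hT1 => ?_⟩
  · unfold Cfsg.PRankLE at hrk
    push Not at hrk
    obtain ⟨B, hBc, hBe, hB⟩ := hrk
    obtain ⟨k, hk⟩ := (elementary_isPGroup (p := 2) (A := B) ⟨hBc, hBe⟩).exists_card_eq
    rw [hk] at hB
    have hk0 : k ≠ 0 := by rintro rfl; norm_num at hB
    exact even_iff_two_dvd.mpr (((dvd_pow_self 2 hk0).trans hk.symm.dvd).trans (Subgroup.card_subgroup_dvd_card B))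
  · obtain ⟨a, haT, ha⟩ : ∃ a ∈ T, orderOf a = 2 := by
      haveI := (Subgroup.nontrivial_iff_ne_bot T).mpr hT1
      obtain ⟨k, hk0, hk⟩ := hT.nontrivial_iff_card.1 ‹_›
      obtain ⟨a, ha⟩ := exists_prime_orderOf_dvd_card' (G := T) 2 (hk ▸ dvd_pow_self 2 hk0.ne')
      exact ⟨a, a.2, by rw [Subgroup.orderOf_coe]; exact ha⟩
    have h0 : Cfsg.pPrimeCore 2 ↥(centralizer ({a} : Set G)) = ⊥ :=
      (Subgroup.map_eq_bot_iff_of_injective _ (Subgroup.subtype_injective _)).mp
        (h.core2_eq_bot CfsgLib.Bender.benderGen ha)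
    have hcon := (CfsgLib.PLocal.isPConstrained_iff_of_core_bot h0).mp
      (CfsgLib.Components.isPConstrained_iff_pLayer_eq_bot.mpr (h.layer a ha))
    have heq : centralizer ({a} : Set G) = centralizer ((zpowers a : Subgroup G) : Set G) := by
      rw [zpowers_eq_closure, centralizer_closure]
    exact CfsgLib.Components.normalizer_charP_of_le
      (CfsgLib.PLocal.centralizer_pCore_le_congr (MulEquiv.subgroupCongr heq) hcon) hT (zpowers_le.mpr haT)

end CfsgLib.Bender.Dichotomy
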