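import Cfsg.Agent.Lib.PLocal.PConstrained
import Cfsg.Agent.Lib.Components.PLayer
import Cfsg.Agent.Lib.ZStar.Main

/-!
Owner: helper14. A 2-constrained group: Sylow 2-subgroups and `O_{2',2}`.
-/

set_option autoImplicit false
set_option linter.style.haveILetI false
set_option linter.unusedSectionVars false

namespace CfsgLib.Bender.Dichotomy

open Subgroup

local instance factTwo' : Fact (Nat.Prime 2) := ⟨Nat.prime_two⟩

variable {C : Type*} [Group C] [Finite C] (R : Sylow 2 C)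

local notation "KK" => Cfsg.pPrimeCore 2 C
local notation "PP" => Cfsg.pPrimePCore 2 C

/-- `O_{2',2}` is covered by a Sylow 2-subgroup. -/
theorem exists_mul_core {p : C} (hp : p ∈ PP) :
    ∃ r ∈ (R : Subgroup C), r ∈ PP ∧ r⁻¹ * p ∈ KK := by
  haveI := CfsgLib.Core.normal_pPrimeCore 2 C
  have h1 := CfsgLib.Core.pCore_le_sylow (R.mapSurjective (QuotientGroup.mk'_surjective KK))
    (show QuotientGroup.mk' KK p ∈ Cfsg.pCore 2 (C ⧸ KK) from hp)
  rw [Sylow.coe_mapSurjective] at h1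
  obtain ⟨r, hr, hrp⟩ := h1
  refine ⟨r, hr, ?_, QuotientGroup.eq.mp hrp⟩
  show QuotientGroup.mk' KK r ∈ Cfsg.pCore 2 (C ⧸ KK)
  rw [hrp]
  exact hp

/-- Modulo the core, every element normalises the Sylow 2-subgroup of `O_{2',2}`. -/
theorem frattini (c : C) :
    ∃ k ∈ KK, ∃ n ∈ normalizer (((R : Subgroup C) ⊓ PP : Subgroup C) : Set C), c = k * n := by
  haveI := CfsgLib.Core.normal_pPrimeCore 2 C
  haveI : (Cfsg.pPrimePCore 2 C).Normal := inferInstanceAs (Subgroup.comap _ _).Normal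
  set Q := (R : Subgroup C) ⊓ PP
  obtain ⟨Q', hQ'⟩ := ((R.isPGroup'.to_le (inf_le_left : Q ≤ R)).comap_subtype (K := PP)).exists_le_sylow
  have hQQ : (Q' : Subgroup PP).map (Subgroup.subtype PP) = Q := by
    refine le_antisymm ?_ fun q hq => ⟨⟨q, hq.2⟩, hQ' hq, rfl⟩
    rintro _ ⟨q, hq, rfl⟩
    obtain ⟨r, hr, hrP, hrk⟩ := exists_mul_core R q.2
    have hr' : (⟨r, hrP⟩ : PP) ∈ (Q' : Subgroup PP) := hQ' (show r ∈ Q from ⟨hr, hrP⟩)
    have hrq := (Q' : Subgroup PP).mul_mem ((Q' : Subgroup PP).inv_mem hr') hq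
    obtain ⟨j, hj⟩ := IsPGroup.iff_orderOf.1 Q'.isPGroup' ⟨_, hrq⟩
    rw [← Subgroup.orderOf_coe, ← Subgroup.orderOf_coe] at hj
    change orderOf (r⁻¹ * (q : C)) = 2 ^ j at hj
    have hodd : Odd (2 ^ j) := hj ▸ (CfsgLib.ZStar.odd_card_oddCore C).of_dvd_nat
      (Subgroup.orderOf_dvd_natCard _ hrk)
    rcases Nat.eq_zero_or_pos j with rfl | hpos
    · rw [pow_zero, orderOf_eq_one_iff, inv_mul_eq_one] at hj
      show (q : C) ∈ Q
      rw [← hj]
      exact ⟨hr, hrP⟩
    · exact absurd hodd (Nat.not_odd_iff_even.2 (Nat.even_pow.2 ⟨even_two, hpos.ne'⟩))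
  have htop := Sylow.normalizer_sup_eq_top Q'
  rw [hQQ] at htop
  have hsup : Cfsg.pPrimeCore 2 C ⊔ normalizer (Q : Set C) = ⊤ := by
    refine top_le_iff.mp (htop ▸ sup_le le_sup_right fun p hp => ?_)
    obtain ⟨r, hr, hrP, hrk⟩ := exists_mul_core R hp
    rw [show p = r * (r⁻¹ * p) by group]
    exact mul_mem (mem_sup_right (Subgroup.le_normalizer ⟨hr, hrP⟩)) (mem_sup_left hrk)
  obtain ⟨k, hk, n, hn, hc⟩ := Subgroup.mem_sup_of_normal_left.mp (hsup.ge (mem_top c))
  exact ⟨k, hk, n, hn, hc.symm⟩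

variable (hc : Cfsg.pLayer 2 C = ⊥)
include hc

/-- The centraliser of a Sylow 2-subgroup of `O_{2',2}` lies in `O_{2',2}`. -/
theorem mem_of_centralize {c : C} (h : ∀ r ∈ (R : Subgroup C), r ∈ PP → c * r = r * c) : c ∈ PP := by
  haveI := CfsgLib.Core.normal_pPrimeCore 2 C
  refine CfsgLib.PLocal.isPConstrained_iff.mp
    (CfsgLib.Components.isPConstrained_iff_pLayer_eq_bot.mpr hc) (mem_centralizer_iff.mpr ?_)
  intro z hz
  obtain ⟨p, rfl⟩ := QuotientGroup.mk'_surjective KK z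
  obtain ⟨r, hr, hrP, hrk⟩ := exists_mul_core R (show p ∈ PP from hz)
  have e : QuotientGroup.mk' KK p = QuotientGroup.mk' KK r := (QuotientGroup.eq.mpr hrk).symm
  rw [e, ← map_mul, ← map_mul, h r hr hrP]

theorem center_mem {x : C} (hx : x ∈ center C) : x ∈ PP :=
  mem_of_centralize (default : Sylow 2 C) hc fun r _ _ => (mem_center_iff.mp hx r).symm

/-- A 2-element acting on `O_{2',2}` modulo a central subgroup of order two lies in it. -/
theorem mem_of_comm_mem {x u : C} (hx : x ∈ center C) (hx2 : x * x = 1)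
    (h : ∀ r ∈ (R : Subgroup C), r ∈ PP → u * r = r * u ∨ u * r = x * r * u) : u ∈ PP := by
  classical
  haveI := CfsgLib.Core.normal_pPrimeCore 2 C
  have hcon := CfsgLib.PLocal.isPConstrained_iff.mp
    (CfsgLib.Components.isPConstrained_iff_pLayer_eq_bot.mpr hc)
  set π := QuotientGroup.mk' KK
  set N := Cfsg.pCore 2 (C ⧸ Cfsg.pPrimeCore 2 C)
  set e := π x with he
  have hecom : ∀ d, e * d = d * e := fun d => by
    obtain ⟨d, rfl⟩ := QuotientGroup.mk'_surjective KK d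
    show π x * π d = π d * π x
    rw [← map_mul, ← map_mul, mem_center_iff.mp hx d]
  have he2 : e * e = 1 := by rw [he, ← map_mul, hx2, map_one]
  have hNn : ∀ a : C ⧸ Cfsg.pPrimeCore 2 C, ∀ n ∈ N, a * n * a⁻¹ ∈ N := fun a n hn =>
    (inferInstance : N.Normal).conj_mem n hn a
  let D : Subgroup (C ⧸ Cfsg.pPrimeCore 2 C) :=
    { carrier := {a | ∀ n ∈ N, a * n * a⁻¹ = n ∨ a * n * a⁻¹ = e * n}
      one_mem' := fun n _ => Or.inl (by group)
      mul_mem' := fun {a b} ha hb n hn => by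
        rw [show a * b * n * (a * b)⁻¹ = a * (b * n * b⁻¹) * a⁻¹ by group]
        rcases hb n hn with h1 | h1 <;> rw [h1]
        · exact ha n hn
        · rw [show a * (e * n) * a⁻¹ = e * (a * n * a⁻¹) by
            rw [← mul_assoc a e n, ← hecom a]; group]
          rcases ha n hn with h2 | h2 <;> rw [h2]
          · exact Or.inr rfl
          · exact Or.inl (by rw [← mul_assoc, he2, one_mul])
      inv_mem' := fun {a} ha n hn => by
        have hn' := hNn a⁻¹ n hn
        rcases ha _ hn' with h1 | h1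
        · exact Or.inl (h1.symm.trans (by group))
        · right
          have h2 : n = e * (a⁻¹ * n * a⁻¹⁻¹) := by rw [← h1]; group
          conv_rhs => rw [h2, ← mul_assoc, he2, one_mul] }
  haveI : D.Normal := ⟨fun a ha g n hn => by
    have h1 := ha _ (hNn g⁻¹ n hn)
    rcases h1 with h1 | h1
    · left
      have h2 := congrArg (fun z => g * z * g⁻¹) h1
      simpa [mul_assoc] using h2
    · right
      have h2 := congrArg (fun z => g * z * g⁻¹) h1
      rw [← mul_assoc g e, ← hecom g] at h2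
      simpa [mul_assoc] using h2⟩
  have hD : IsPGroup 2 D := by
    intro a
    have hsq : (a : C ⧸ Cfsg.pPrimeCore 2 C) * a ∈ N := hcon (mem_centralizer_iff.mpr fun n hn => by
      have key : (a : C ⧸ Cfsg.pPrimeCore 2 C) * a * n * ((a : C ⧸ Cfsg.pPrimeCore 2 C) * a)⁻¹ = n := by
        obtain ⟨b, hb⟩ : ∃ b : C ⧸ Cfsg.pPrimeCore 2 C, (a : C ⧸ Cfsg.pPrimeCore 2 C) = b := ⟨_, rfl⟩
        rw [hb, show b * b * n * (b * b)⁻¹ = b * (b * n * b⁻¹) * b⁻¹ by group, ← hb]
        rcases a.2 n hn with h1 | h1 <;> rw [h1]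
        · exact h1
        · rw [← mul_assoc, ← hecom, mul_assoc e, mul_assoc e, h1, ← mul_assoc, he2, one_mul]
      exact (mul_inv_eq_iff_eq_mul.mp key).symm)
    obtain ⟨j, hj⟩ := CfsgLib.Core.isPGroup_pCore 2 _ ⟨_, hsq⟩
    refine ⟨j + 1, Subtype.ext ?_⟩
    have := congrArg Subtype.val hj
    rw [SubmonoidClass.coe_pow] at this
    rw [SubmonoidClass.coe_pow, pow_succ', pow_mul, pow_two, OneMemClass.coe_one]
    exact this
  refine CfsgLib.Core.le_pCore hD (show π u ∈ D from ?_)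
  intro n hn
  obtain ⟨p, rfl⟩ := QuotientGroup.mk'_surjective KK n
  obtain ⟨r, hr, hrP, hrk⟩ := exists_mul_core R (show p ∈ PP from hn)
  rw [show π p = π r from (QuotientGroup.eq.mpr hrk).symm]
  rcases h r hr hrP with h1 | h1
  · left
    rw [mul_inv_eq_iff_eq_mul, ← map_mul, ← map_mul, h1]
  · right
    rw [mul_inv_eq_iff_eq_mul, he, ← map_mul, ← map_mul, ← map_mul, h1]

end CfsgLib.Bender.Dichotomy
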