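import Cfsg.Agent.Lib.Bender.Dichotomy.Setup
import Cfsg.Agent.Lib.Bender.Dichotomy.Local
import Cfsg.Agent.Lib.Classical.CentralCoset
import Cfsg.Agent.Lib.Bender.GroupLemmas
import Cfsg.Agent.Lib.LocalEvenB.AlperinStrong
import Cfsg.Agent.Lib.Techniques.Basic

/-!
Owner: helper14. An involution of `N(W)` whose centraliser meets `N(W)` in a subgroup with an elementary
subgroup of order eight has its centraliser in `N(W)`, `W` the common closure of the cores.
-/

set_option autoImplicit false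
set_option linter.style.haveILetI false
set_option linter.unusedSectionVars false
set_option maxHeartbeats 1000000

namespace CfsgLib.Bender.Dichotomy

open Subgroup CfsgLib.Signalizer

universe u

local instance factTwo'' : Fact (Nat.Prime 2) := ⟨Nat.prime_two⟩

variable {G : Type u} [Group G] [Finite G]

/-- `O_{2',2}(C(x))` in the ambient group. -/
def pp (x : G) : Subgroup G :=
  (Cfsg.pPrimePCore 2 ↥(centralizer ({x} : Set G))).map (centralizer ({x} : Set G)).subtype

theorem pp_le (x : G) : pp x ≤ centralizer ({x} : Set G) := map_subtype_le _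

theorem mem_pp {x y : G} (hy : y ∈ centralizer ({x} : Set G)) :
    y ∈ pp x ↔ (⟨y, hy⟩ : centralizer ({x} : Set G)) ∈
      Cfsg.pPrimePCore 2 ↥(centralizer ({x} : Set G)) := by
  constructor
  · rintro ⟨z, hz, rfl⟩; exact hz
  · exact fun h => ⟨_, h, rfl⟩

theorem centralizer_le_normalizer_pp (x : G) :
    centralizer ({x} : Set G) ≤ normalizer (pp x : Set G) := by
  haveI : (Cfsg.pPrimePCore 2 ↥(centralizer ({x} : Set G))).Normal :=
    inferInstanceAs (Subgroup.comap _ _).Normal
  intro g hg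
  exact le_normalizer_map _ ⟨⟨g, hg⟩, (normalizer_eq_top _).ge (mem_top _), rfl⟩

theorem pp_conj {x y : G} (g : G) (hy : y ∈ pp x) : g * y * g⁻¹ ∈ pp (g * x * g⁻¹) := by
  obtain ⟨⟨y, hyC⟩, hyP, rfl⟩ := hy
  have hmem : ∀ c : G, c ∈ centralizer ({x} : Set G) →
      g * c * g⁻¹ ∈ centralizer ({g * x * g⁻¹} : Set G) := fun c hc =>
    mem_centralizer_singleton_iff.mpr (by
      rw [show g * c * g⁻¹ * (g * x * g⁻¹) = g * (c * x) * g⁻¹ by group,
        mem_centralizer_singleton_iff.mp hc]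
      group)
  have hmem' : ∀ c : G, c ∈ centralizer ({g * x * g⁻¹} : Set G) →
      g⁻¹ * c * g ∈ centralizer ({x} : Set G) := fun c hc =>
    mem_centralizer_singleton_iff.mpr (by
      rw [show g⁻¹ * c * g * x = g⁻¹ * (c * (g * x * g⁻¹)) * g by group,
        mem_centralizer_singleton_iff.mp hc]
      group)
  let e : centralizer ({x} : Set G) ≃* centralizer ({g * x * g⁻¹} : Set G) :=
    { toFun := fun c => ⟨g * c * g⁻¹, hmem c c.2⟩
      invFun := fun c => ⟨g⁻¹ * c * g, hmem' c c.2⟩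
      left_inv := fun c => Subtype.ext (by simp [mul_assoc])
      right_inv := fun c => Subtype.ext (by simp [mul_assoc])
      map_mul' := fun c d => Subtype.ext (by simp [mul_assoc]) }
  exact ⟨e ⟨y, hyC⟩, (CfsgLib.LocalEvenB.map_equiv_pPrimePCore e).le (mem_map_of_mem e.toMonoidHom hyP),
    rfl⟩

/-- An odd subgroup of `C(y)` invariant under `x ∈ O_{2',2}(C(y))` lies in the core as soon as its
fixed points do. -/
theorem pp_absorb {x y : G} (hx : orderOf x = 2) (hxy : x ∈ pp y) {A : Subgroup G}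
    (hA : Odd (Nat.card A)) (hAy : A ≤ centralizer ({y} : Set G))
    (hxA : x ∈ normalizer (A : Set G)) (hfix : A ⊓ centralizer ({x} : Set G) ≤ core2 y) :
    A ≤ core2 y := by
  intro a ha
  have hac : a * x * a⁻¹ * x⁻¹ ∈ pp y :=
    mul_mem ((mem_normalizer_iff.mp (centralizer_le_normalizer_pp y (hAy ha)) x).mp hxy) (inv_mem hxy)
  have haA : a * x * a⁻¹ * x⁻¹ ∈ A := by
    rw [show a * x * a⁻¹ * x⁻¹ = a * (x * a⁻¹ * x⁻¹) by group]
    exact mul_mem ha ((mem_normalizer_iff.mp hxA _).mp (inv_mem ha))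
  have hco : a * x * a⁻¹ * x⁻¹ ∈ core2 y := by
    have hcy := pp_le y hac
    refine ⟨⟨_, hcy⟩, CfsgLib.Classical.CentralCoset.mem_oddCore_of_mem_pPrimePCore
      ((mem_pp hcy).mp hac) ?_, rfl⟩
    rw [← Subgroup.orderOf_coe]
    exact hA.of_dvd_nat (Subgroup.orderOf_dvd_natCard _ haA)
  obtain ⟨w, hw, hwx⟩ := exists_conj_of_mul_mem (W := A ⊓ core2 y) (odd_of_le inf_le_left hA)
    (s := x) (t := a * x * a⁻¹) hx (by rw [orderOf_conj]; exact hx) (by
      have he : x * (a * x * a⁻¹) = (a * x * a⁻¹ * x⁻¹)⁻¹ := by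
        rw [mul_inv_rev, inv_inv, show (a * x * a⁻¹)⁻¹ = a * x⁻¹ * a⁻¹ by group, involution_inv hx]
      rw [he]
      exact inv_mem (mem_inf.mpr ⟨haA, hco⟩))
  obtain ⟨hwA, hwy⟩ := mem_inf.mp hw
  have hwa : w⁻¹ * a ∈ centralizer ({x} : Set G) := mem_centralizer_singleton_iff.mpr (by
    calc w⁻¹ * a * x = w⁻¹ * (a * x * a⁻¹) * a := by group
      _ = w⁻¹ * (w * x * w⁻¹) * a := by rw [hwx]
      _ = _ := by group)
  have := mul_mem hwy (hfix (mem_inf.mpr ⟨mul_mem (inv_mem hwA) ha, hwa⟩))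
  rwa [mul_inv_cancel_left] at this

theorem mem_centralizer_zpowers {x y : G} :
    y ∈ centralizer (zpowers x : Set G) ↔ y * x = x * y := by
  rw [zpowers_eq_closure, centralizer_closure, mem_centralizer_singleton_iff]

theorem eq_of_mem_zpowers_two {x y : G} (hx : orderOf x = 2) (hy : y ∈ zpowers x) : y = 1 ∨ y = x := by
  obtain ⟨j, rfl⟩ := mem_zpowers_iff.mp hy
  rw [zpow_eq_zpow_emod' j (show x ^ 2 = 1 by rw [pow_two]; exact sq_of_orderOf_two hx)]
  rcases Int.emod_two_eq j with e | e <;> simp [e]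

theorem mem_four {a b y : G} (ha : orderOf a = 2) (hb : orderOf b = 2) (hc : a * b = b * a)
    (hy : y ∈ zpowers a ⊔ zpowers b) : y = 1 ∨ y = a ∨ y = b ∨ y = a * b := by
  have hn : zpowers a ≤ normalizer (zpowers b : Set G) :=
    zpowers_le.mpr (centralizer_le_normalizer _ (mem_centralizer_zpowers.mpr hc))
  obtain ⟨c, hcb, d, hd, rfl⟩ := (CfsgLib.Core.mem_sup_iff_mul' hn).mp hy
  rcases eq_of_mem_zpowers_two hb hcb with e | e <;> rcases eq_of_mem_zpowers_two ha hd with e' | e' <;>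
    simp [e, e', hc]

theorem relIndex_le_two {K S : Subgroup G}
    (h : ∀ a ∈ S, ∀ b ∈ S, a ∉ K → b ∉ K → a * b ∈ K) : K.relIndex S ≤ 2 := by
  by_cases hS : S ≤ K
  · rw [Subgroup.relIndex_eq_one.mpr hS]; norm_num
  obtain ⟨a, haS, haK⟩ := Set.not_subset.mp hS
  refine le_of_eq (Subgroup.index_eq_two_iff.mpr ⟨⟨a, haS⟩, fun b => ?_⟩)
  rw [mem_subgroupOf, mem_subgroupOf]
  by_cases hb : (b : G) ∈ K
  · exact Or.inr ⟨hb, fun h' => haK ((K.mul_mem_cancel_left hb).mp h')⟩
  · exact Or.inl ⟨h b b.2 a haS hb haK, hb⟩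

/-- A four-group `⟨x, v⟩ ≤ Q` normal in `T`, `x` central in `T`. -/
theorem exists_pair_in {T Q U : Subgroup G} {x : G} (hx : orderOf x = 2)
    (hTx : T ≤ centralizer ({x} : Set G))
    (hQn : ∀ t ∈ T, ∀ q ∈ Q, t * q * t⁻¹ ∈ Q) (hU : Cfsg.IsElementaryAbelian 2 U)
    (hUn : T ≤ normalizer (U : Set G)) (hUi : (centralizer (U : Set G)).relIndex T ≤ 2)
    {u : G} (huU : u ∈ U) (huQ : u ∈ Q) (hu1 : u ≠ 1) (hux : u ≠ x) :
    ∃ v ∈ Q, orderOf v = 2 ∧ v ≠ x ∧ ∀ t ∈ T, t * v * t⁻¹ = v ∨ t * v * t⁻¹ = v * x := by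
  by_cases hall : ∀ t ∈ T, t * u * t⁻¹ = u
  · exact ⟨u, huQ, orderOf_two (elem_sq hU huU) hu1, hux, fun t ht => Or.inl (hall t ht)⟩
  push Not at hall
  obtain ⟨t, ht, htu⟩ := hall
  set u' := t * u * t⁻¹ with hu'
  have hu'U : u' ∈ U := (mem_normalizer_iff.mp (hUn ht) u).mp huU
  have hcom : ∀ c, c ∈ centralizer (U : Set G) → ∀ z ∈ U, c * z * c⁻¹ = z := fun c hc z hz => by
    rw [← mem_centralizer_iff.mp hc z hz, mul_inv_cancel_right]
  have htK : t ∉ centralizer (U : Set G) := fun h => htu (hcom t h u huU)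
  have h2 : t * u' * t⁻¹ = u := by
    have h := hcom _ (sq_mem_of_relIndex hUi ht) u huU
    rw [hu']
    calc t * (t * u * t⁻¹) * t⁻¹ = t * t * u * (t * t)⁻¹ := by group
      _ = u := h
  have hsu : ∀ s ∈ T, s ∉ centralizer (U : Set G) → s * u * s⁻¹ = u' := by
    intro s hs hsK
    have hi : t⁻¹ ∉ centralizer (U : Set G) := fun h => htK (by
      have := inv_mem h; rwa [inv_inv] at this)
    have h := hcom _ (mul_mem_of_relIndex hUi (inv_mem ht) hs hi hsK) u huU
    calc s * u * s⁻¹ = t * (t⁻¹ * s * u * (t⁻¹ * s)⁻¹) * t⁻¹ := by group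
      _ = u' := by rw [h]
  have hsu' : ∀ s ∈ T, s ∉ centralizer (U : Set G) → s * u' * s⁻¹ = u := by
    intro s hs hsK
    have h := hcom _ (mul_mem_of_relIndex hUi hs ht hsK htK) u huU
    rw [hu']
    calc s * (t * u * t⁻¹) * s⁻¹ = s * t * u * (s * t)⁻¹ := by group
      _ = u := h
  set w := u * u' with hw
  have hw1 : w ≠ 1 := fun h => htu (by
    have h1 := eq_inv_of_mul_eq_one_right h
    rw [h1, inv_eq_of_mul_eq_one_right (elem_sq hU huU)])
  have hwfix : ∀ s ∈ T, s * w * s⁻¹ = w := by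
    intro s hs
    by_cases hsK : s ∈ centralizer (U : Set G)
    · exact hcom s hsK w (mul_mem huU hu'U)
    · rw [hw, show s * (u * u') * s⁻¹ = (s * u * s⁻¹) * (s * u' * s⁻¹) by group, hsu s hs hsK,
        hsu' s hs hsK]
      exact elementary_comm hU hu'U huU
  by_cases hwx : w = x
  · refine ⟨u, huQ, orderOf_two (elem_sq hU huU) hu1, hux, fun s hs => ?_⟩
    by_cases hsK : s ∈ centralizer (U : Set G)
    · exact Or.inl (hcom s hsK u huU)
    · right
      rw [hsu s hs hsK, ← hwx, hw, ← mul_assoc, elem_sq hU huU, one_mul]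
  · exact ⟨w, mul_mem huQ (hQn t ht u huQ), orderOf_two (elem_sq hU (mul_mem huU hu'U)) hw1, hwx,
      fun s hs => Or.inl (hwfix s hs)⟩

/-- A maximal 2-subgroup of `C` as a Sylow 2-subgroup of `C`. -/
def sylowOfMax {C R : Subgroup G} (hRC : R ≤ C) (hR : IsPGroup 2 R)
    (hmax : ∀ Q ≤ C, IsPGroup 2 Q → R ≤ Q → Q = R) : Sylow 2 C where
  toSubgroup := R.subgroupOf C
  isPGroup' := hR.comap_subtype
  is_maximal' := fun {Q} hQ hle => by
    have h := hmax (Q.map C.subtype) (map_subtype_le Q) (hQ.map _)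
      (fun r hr => ⟨⟨r, hRC hr⟩, hle (mem_subgroupOf.mpr hr), rfl⟩)
    refine le_antisymm (fun q hq => ?_) hle
    exact mem_subgroupOf.mpr (h ▸ mem_map_of_mem C.subtype hq)

theorem mem_sylowOfMax {C R : Subgroup G} (hRC : R ≤ C) (hR : IsPGroup 2 R)
    (hmax : ∀ Q ≤ C, IsPGroup 2 Q → R ≤ Q → Q = R) {c : C} :
    c ∈ ((sylowOfMax hRC hR hmax : Sylow 2 C) : Subgroup C) ↔ (c : G) ∈ R := mem_subgroupOf

/-- **The centraliser lies in `N(W)`.** -/
theorem Hyp.centralizer_le (h : Hyp G) {W : Subgroup G} (hWodd : Odd (Nat.card W))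
    (hW : ∀ E : Subgroup G, Eight E → E ≤ normalizer (W : Set G) → clo E = W)
    {x : G} (hx : orderOf x = 2) (hxM : x ∈ normalizer (W : Set G)) {E : Subgroup G} (hE : Eight E)
    (hEM : E ≤ normalizer (W : Set G)) (hEx : E ≤ centralizer ({x} : Set G)) :
    centralizer ({x} : Set G) ≤ normalizer (W : Set G) := by
  have hconj : ∀ {g : G} {E' : Subgroup G}, Eight E' → E' ≤ normalizer (W : Set G) →
      cj g E' ≤ normalizer (W : Set G) → g ∈ normalizer (W : Set G) := fun {g E'} h8 h1 h2 => by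
    refine mem_normalizer_of_cj ?_
    have e := hW _ (cj_eight (g := g) h8) h2
    rwa [clo_cj, hW _ h8 h1] at e
  -- an elementary subgroup of order eight containing `x`
  have hel1 := elem_sup_zpowers hE.1 (sq_of_orderOf_two hx) fun a ha =>
    mem_centralizer_singleton_iff.mp (hEx ha)
  set E1 := E ⊔ zpowers x
  have hE1 : Eight E1 := ⟨hel1, hE.2.trans (card_le_of_le le_sup_left)⟩
  have hxE1 : x ∈ E1 := mem_sup_right (mem_zpowers x)
  have hE1M : E1 ≤ normalizer (W : Set G) := sup_le hEM (zpowers_le.mpr hxM)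
  have hE1x : E1 ≤ centralizer ({x} : Set G) := elementary_le_centralizer hel1 hxE1
  have hx1 := ne_one_of_orderOf_two hx
  have hWx : W ⊓ centralizer ({x} : Set G) ≤ core2 x := by
    have := h.clo_fix hE1 hxE1 hx1
    rwa [hW E1 hE1 hE1M] at this
  have hcoreW : core2 x ≤ W := by
    refine Solv.le_of_fixed_le (p := 2) hE.1 (le_trans (by norm_num) hE.2)
      (hEx.trans (CfsgLib.Classical.TwoType.le_normalizer_oC x))
      (fun hd => Nat.not_even_iff_odd.mpr (odd_core2 x) (even_iff_two_dvd.mpr hd)) fun a ha ha1 => ?_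
    refine (h.balance hx (elementary_orderOf hE.1 ha ha1)
      (mem_centralizer_singleton_iff.mp (hEx ha)).symm).trans ((le_closure ha ha1).trans ?_)
    rw [← hW E hE hEM]
  obtain ⟨T, hE1T, hTx, hT, hTmax, hTconj⟩ := exists_sylow_in (elementary_isPGroup hE1.1) hE1x
  have hTM : T ≤ normalizer (W : Set G) := fun t ht => by
    refine mem_normalizer_of_cj ?_
    rw [← hW E1 hE1 hE1M, ← clo_cj]
    exact h.clo_eq_of_two_group hT (cj_eight hE1)
      (cj_le_iff.mpr fun e he => mul_mem (mul_mem ht (hE1T he)) (inv_mem ht)) hE1 hE1T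
  have hxT : x ∈ T := hE1T hxE1
  set Q := T ⊓ pp x with hQdef
  have hQT : Q ≤ T := inf_le_left
  have hQn : ∀ t ∈ T, ∀ q ∈ Q, t * q * t⁻¹ ∈ Q := fun t ht q hq =>
    mem_inf.mpr ⟨mul_mem (mul_mem ht hq.1) (inv_mem ht),
      (mem_normalizer_iff.mp (centralizer_le_normalizer_pp x (hTx ht)) q).mp hq.2⟩
  set C := centralizer ({x} : Set G) with hC
  set R := sylowOfMax hTx hT hTmax
  have hRm : ∀ c : C, c ∈ (R : Subgroup C) ↔ (c : G) ∈ T := fun c => mem_sylowOfMax hTx hT hTmax
  have hLx := h.layer x hx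
  -- the main step
  suffices key : ∀ g ∈ C, cj g Q = Q → g ∈ normalizer (W : Set G) by
    intro c hc
    obtain ⟨k, hk, n, hn, hkn⟩ := frattini R (⟨c, hc⟩ : C)
    have hnQ : cj (n : G) Q = Q := by
      refine eq_of_le_of_card_ge (cj_le_iff.mpr fun q hq => ?_) (card_cj _ _).ge
      have hqC : q ∈ C := hTx hq.1
      have h1 := (mem_normalizer_iff.mp hn (⟨q, hqC⟩ : C)).mp
        ⟨(hRm _).mpr hq.1, (mem_pp hqC).mp hq.2⟩
      exact ⟨(hRm _).mp h1.1, (mem_pp (mul_mem (mul_mem n.2 hqC) (inv_mem n.2))).mpr h1.2⟩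
    have hceq : c = (k : G) * n := congrArg Subtype.val hkn
    rw [hceq]
    exact mul_mem ((Subgroup.le_normalizer : W ≤ normalizer (W : Set G)) (hcoreW ⟨k, hk, rfl⟩)) (key n n.2 hnQ)
  intro g hgC hgQ
  have hQ8 : ∀ E' : Subgroup G, Eight E' → E' ≤ Q → g ∈ normalizer (W : Set G) := fun E' h8 h1 =>
    hconj h8 (h1.trans (hQT.trans hTM)) (((cj_mono h1).trans hgQ.le).trans (hQT.trans hTM))
  have hgx : g * x * g⁻¹ = x := by
    rw [mem_centralizer_singleton_iff.mp hgC, mul_inv_cancel_right]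
  have hxC : x ∈ C := mem_centralizer_singleton_iff.mpr rfl
  have hxcen : (⟨x, hxC⟩ : C) ∈ center C := mem_center_iff.mpr fun c =>
    Subtype.ext (mem_centralizer_singleton_iff.mp c.2)
  have hxQ : x ∈ Q := ⟨hxT, (mem_pp hxC).mpr (center_mem hLx hxcen)⟩
  -- the normal four-group inside `Q`
  obtain ⟨U, hUT, hU, hU4, hUn, hUi⟩ := exists_normalFour hT hE1 hE1T
  obtain ⟨u, huU, huQ, hu1, hux⟩ : ∃ u ∈ U, u ∈ Q ∧ u ≠ 1 ∧ u ≠ x := by
    by_contra hno
    push Not at hno
    have hUQ : U ≤ Q := by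
      intro u hu
      have huT := hUT hu
      refine ⟨huT, (mem_pp (hTx huT)).mpr (mem_of_comm_mem R hLx (x := ⟨x, hxC⟩) hxcen
        (Subtype.ext (sq_of_orderOf_two hx)) fun r hr hrP => ?_)⟩
      have hrT : (r : G) ∈ T := (hRm r).mp hr
      have hrQ : (r : G) ∈ Q := ⟨hrT, (mem_pp r.2).mpr hrP⟩
      have hmQ : u * r * u⁻¹ * (r : G)⁻¹ ∈ Q := mul_mem (hQn u huT _ hrQ) (inv_mem hrQ)
      have hmU : u * r * u⁻¹ * (r : G)⁻¹ ∈ U := by
        rw [show u * r * u⁻¹ * (r : G)⁻¹ = u * ((r : G) * u⁻¹ * (r : G)⁻¹) by group]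
        exact mul_mem hu ((mem_normalizer_iff.mp (hUn hrT) _).mp (inv_mem hu))
      by_cases h1 : u * r * u⁻¹ * (r : G)⁻¹ = 1
      · left
        exact Subtype.ext (mul_inv_eq_iff_eq_mul.mp (mul_inv_eq_one.mp h1))
      · right
        have h2 := hno _ hmU hmQ h1
        refine Subtype.ext ?_
        show u * (r : G) = x * r * u
        rw [← h2]; group
    have h4 : Nat.card U ≤ 2 := by
      rw [← hx, ← Nat.card_zpowers]
      refine card_le_of_le fun u hu => ?_
      by_cases h1 : u = 1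
      · rw [h1]; exact one_mem _
      · rw [hno u hu (hUQ hu) h1]; exact mem_zpowers x
    omega
  obtain ⟨v, hvQ, hv, hvx, hvT⟩ := exists_pair_in hx hTx hQn hU hUn hUi huU huQ hu1 hux
  have hxv : x * v = v * x := (mem_centralizer_singleton_iff.mp (hTx (hQT hvQ))).symm
  set F := zpowers x ⊔ zpowers v with hFdef
  obtain ⟨hF, hF4⟩ := four_of_pair hx hv hvx.symm hxv
  rw [← hFdef] at hF hF4
  have hFQ : F ≤ Q := sup_le (zpowers_le.mpr hxQ) (zpowers_le.mpr hvQ)
  have hcv : ∀ t ∈ T, t ∉ centralizer ({v} : Set G) → t * v * t⁻¹ = v * x := fun t ht htv =>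
    (hvT t ht).resolve_left fun h' => htv (mem_centralizer_singleton_iff.mpr (mul_inv_eq_iff_eq_mul.mp h'))
  have htwo : ∀ a ∈ T, ∀ b ∈ T, a ∉ centralizer ({v} : Set G) → b ∉ centralizer ({v} : Set G) →
      a * b ∈ centralizer ({v} : Set G) := by
    intro a ha b hb hav hbv
    refine mem_centralizer_singleton_iff.mpr (mul_inv_eq_iff_eq_mul.mp ?_)
    have hax : a * x * a⁻¹ = x := by rw [mem_centralizer_singleton_iff.mp (hTx ha), mul_inv_cancel_right]
    rw [show a * b * v * (a * b)⁻¹ = a * (b * v * b⁻¹) * a⁻¹ by group, hcv b hb hbv,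
      show a * (v * x) * a⁻¹ = (a * v * a⁻¹) * (a * x * a⁻¹) by group, hcv a ha hav, hax, mul_assoc,
      sq_of_orderOf_two hx, mul_one]
  have hFi : (centralizer (F : Set G)).relIndex T ≤ 2 := by
    refine relIndex_le_two fun a ha b hb haF hbF => ?_
    have hsub : ∀ t ∈ T, t ∈ centralizer ({v} : Set G) → t ∈ centralizer (F : Set G) := fun t ht htv => by
      rw [← zpowers_le, le_centralizer_iff, hFdef, sup_le_iff, zpowers_le, zpowers_le,
        mem_centralizer_zpowers, mem_centralizer_zpowers]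
      exact ⟨(mem_centralizer_singleton_iff.mp (hTx ht)).symm, (mem_centralizer_singleton_iff.mp htv).symm⟩
    exact hsub _ (mul_mem ha hb) (htwo a ha b hb (fun h' => haF (hsub a ha h')) fun h' => hbF (hsub b hb h'))
  obtain ⟨-, -, -, -, hFE⟩ := h.eight_over hF hF4 (hFQ.trans hQT) hFi hE1 hE1T
  rw [hW E1 hE1 hE1M] at hFE
  -- its image under `g`
  set v' := g * v * g⁻¹ with hv'def
  have hv'Q : v' ∈ Q := hgQ.le (conj_mem_cj hvQ)
  have hv'T : v' ∈ T := hQT hv'Q
  have hv' : orderOf v' = 2 := by rw [hv'def, orderOf_conj]; exact hv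
  have hv'x : v' ≠ x := fun e => hvx (by
    rw [hv'def] at e
    exact mul_left_cancel (mul_right_cancel (e.trans hgx.symm)))
  have hxv' : x * v' = v' * x := (mem_centralizer_singleton_iff.mp (hTx hv'T)).symm
  set F' := zpowers x ⊔ zpowers v' with hF'def
  obtain ⟨hF', hF'4⟩ := four_of_pair hx hv' hv'x.symm hxv'
  rw [← hF'def] at hF' hF'4
  have hFF' : cj g F = F' := by
    rw [hFdef, hF'def, cj, Subgroup.map_sup, MonoidHom.map_zpowers, MonoidHom.map_zpowers]
    show zpowers (g * x * g⁻¹) ⊔ zpowers (g * v * g⁻¹) = _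
    rw [hgx]
  have hcloF' : clo F' = cj g W := by rw [← hFF', clo_cj, ← hFE]
  have hdone : clo F' = W → g ∈ normalizer (W : Set G) := fun e =>
    mem_normalizer_of_cj (hcloF'.symm.trans e)
  by_cases hcomm : v * v' = v' * v
  · by_cases hv'F : v' ∈ F
    · refine hdone ?_
      have : F' = F := eq_of_le_of_card_ge (sup_le (le_sup_left) (zpowers_le.mpr hv'F))
        (by rw [← hFF', card_cj])
      rw [this, hFE]
    · refine hQ8 _ (eight_sup_zpowers hF hF4 (sq_of_orderOf_two hv') (fun a ha => ?_) hv'F)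
        (sup_le hFQ (zpowers_le.mpr hv'Q))
      rcases mem_four hx hv hxv ha with rfl | rfl | rfl | rfl
      · simp
      · exact hxv'
      · exact hcomm
      · exact ((show Commute x v' from hxv').mul_left hcomm).eq
  have hv'v : v' * v * v'⁻¹ = v * x := hcv v' hv'T fun h' =>
    hcomm (mem_centralizer_singleton_iff.mp h').symm
  have hxinv : x⁻¹ = x := involution_inv hx
  have hvinv : v⁻¹ = v := involution_inv hv
  have hv'inv : v'⁻¹ = v' := involution_inv hv'
  set T0 := T ⊓ centralizer ({v} : Set G) with hT0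
  have hx0 : x ∈ T0 := ⟨hxT, mem_centralizer_singleton_iff.mpr hxv⟩
  have hnot : ∀ y, y * v = v * y → y ≠ v' ∧ y ≠ x * v' := by
    refine fun y hy => ⟨fun e => hcomm (by rw [← e]; exact hy.symm), fun e => hcomm ?_⟩
    rw [e] at hy
    refine (mul_left_cancel (a := x) ?_).symm
    calc x * (v' * v) = x * v' * v := (mul_assoc x v' v).symm
      _ = v * (x * v') := hy
      _ = x * (v * v') := by rw [← mul_assoc, ← hxv, mul_assoc]
  have height : ∀ o ∈ T0, o * o = 1 → o * v' = v' * o → o ≠ 1 → o ≠ x →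
      g ∈ normalizer (W : Set G) := by
    intro o ho ho2 hov' ho1 hox
    have hov := mem_centralizer_singleton_iff.mp ho.2
    have hox' : o * x = x * o := mem_centralizer_singleton_iff.mp (hTx ho.1)
    have hoF' : o ∉ F' := fun h' => by
      rcases mem_four hx hv' hxv' h' with e | e | e | e
      · exact ho1 e
      · exact hox e
      · exact (hnot o hov).1 e
      · exact (hnot o hov).2 e
    have h8 : Eight (F' ⊔ zpowers o) := eight_sup_zpowers hF' hF'4 ho2 (fun a ha => by
      rcases mem_four hx hv' hxv' ha with rfl | rfl | rfl | rfl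
      · simp
      · exact hox'.symm
      · exact hov'.symm
      · exact ((show Commute x o from hox'.symm).mul_left hov'.symm).eq) hoF'
    have hle : F' ⊔ zpowers o ≤ normalizer (W : Set G) :=
      sup_le (sup_le (zpowers_le.mpr hxM) (zpowers_le.mpr (hTM hv'T))) (zpowers_le.mpr (hTM ho.1))
    exact hdone ((h.clo_eq_of_le h8 le_sup_left hF'4).trans (hW _ h8 hle))
  by_cases hex : ∃ o ∈ T0, o * o = 1 ∧ (∀ y ∈ T0, o * y = y * o) ∧ o ∉ F
  · -- an involution of `Z(T0)` outside `F`
    obtain ⟨o, ho, ho2, hocen, hoF⟩ := hex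
    have hoi : o⁻¹ = o := inv_eq_of_mul_eq_one_right ho2
    have hov := mem_centralizer_singleton_iff.mp ho.2
    have hox' : o * x = x * o := mem_centralizer_singleton_iff.mp (hTx ho.1)
    set k := v' * (o * v' * o) with hk
    have hkQ : k ∈ Q := mul_mem hv'Q (by
      have := hQn o ho.1 v' hv'Q; rwa [hoi] at this)
    have hkinv : k⁻¹ = o * v' * o * v' := by
      rw [hk, mul_inv_rev, mul_inv_rev, mul_inv_rev, hoi, hv'inv]; group
    have hkv : k * v = v * k := mul_inv_eq_iff_eq_mul.mp (by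
      have e1 : o * v * o⁻¹ = v := by rw [hov, mul_inv_cancel_right]
      have e2 : o * x * o⁻¹ = x := by rw [hox', mul_inv_cancel_right]
      have e3 : v' * x * v'⁻¹ = x := by rw [← hxv', mul_inv_cancel_right]
      calc k * v * k⁻¹ = v' * (o * (v' * (o * v * o⁻¹) * v'⁻¹) * o⁻¹) * v'⁻¹ := by rw [hk]; group
        _ = v' * (o * (v * x) * o⁻¹) * v'⁻¹ := by rw [e1, hv'v]
        _ = v' * ((o * v * o⁻¹) * (o * x * o⁻¹)) * v'⁻¹ := by group
        _ = v' * (v * x) * v'⁻¹ := by rw [e1, e2]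
        _ = (v' * v * v'⁻¹) * (v' * x * v'⁻¹) := by group
        _ = v := by rw [hv'v, e3, mul_assoc, sq_of_orderOf_two hx, mul_one])
    have hko : o * k = k * o := hocen k ⟨hQT hkQ, mem_centralizer_singleton_iff.mpr hkv⟩
    have hkk : k⁻¹ = k := by
      calc k⁻¹ = o * v' * o * v' := hkinv
        _ = o * (v' * (o * v' * o)) * o := by
          rw [show o * (v' * (o * v' * o)) * o = o * v' * o * v' * (o * o) by group, ho2, mul_one]
        _ = o * k * o := by rw [hk]
        _ = k := by rw [hko, mul_assoc, ho2, mul_one]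
    have hk2 : k * k = 1 := by
      calc k * k = k⁻¹ * k := by rw [hkk]
        _ = 1 := inv_mul_cancel k
    by_cases hkF : k ∈ F
    · have hv'k : v' * k = k * v' := by
        calc v' * k = (v' * v') * (o * v' * o) := by rw [hk]; group
          _ = o * v' * o := by rw [sq_of_orderOf_two hv', one_mul]
          _ = (o * v' * o * v') * v' := by rw [mul_assoc _ v' v', sq_of_orderOf_two hv', mul_one]
          _ = k * v' := by rw [← hkinv, hkk]
      rcases mem_four hx hv hxv hkF with e | e | e | e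
      · -- `k = 1`
        refine height o ho ho2 ?_ (fun e' => hoF (e' ▸ one_mem _)) fun e' =>
          hoF (e' ▸ mem_sup_left (mem_zpowers x))
        rw [hk, ← eq_inv_iff_mul_eq_one] at e
        have h1 := congrArg (fun z => z * o * v') e
        simp only [hv'inv, mul_inv_rev, hoi, mul_assoc] at h1
        rw [← mul_assoc o o, ho2] at h1
        have e' : v' * (o * v') = o := by
          calc v' * (o * v') = v' * ((o * v' * o) * o) := by
                rw [mul_assoc _ o o, ho2, mul_one]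
            _ = (v' * (o * v' * o)) * o := by group
            _ = k * o := by rw [hk]
            _ = o := by
              have : k = 1 := by rw [hk]; exact eq_inv_iff_mul_eq_one.mp e
              rw [this, one_mul]
        calc o * v' = (v' * v') * (o * v') := by rw [sq_of_orderOf_two hv', one_mul]
          _ = v' * (v' * (o * v')) := by group
          _ = v' * o := by rw [e']
      · -- `k = x`
        have hov1 : Commute o v := hov
        refine height (o * v) (mul_mem ho ⟨hQT hvQ, mem_centralizer_singleton_iff.mpr rfl⟩) ?_ ?_ ?_ ?_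
        · rw [mul_assoc, ← mul_assoc v o, hov1.symm.eq, mul_assoc, sq_of_orderOf_two hv, mul_one, ho2]
        · have e1 : v' * o * v'⁻¹ = x * o := by
            calc v' * o * v'⁻¹ = v' * (o * v' * o) * o := by
                  rw [hv'inv, mul_assoc v' (o * v' * o), mul_assoc _ o o, ho2, mul_one, mul_assoc]
              _ = k * o := by rw [hk]
              _ = x * o := by rw [e]
          refine (mul_inv_eq_iff_eq_mul.mp ?_).symm
          rw [show v' * (o * v) * v'⁻¹ = (v' * o * v'⁻¹) * (v' * v * v'⁻¹) by group, e1, hv'v, ← hox',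
            mul_assoc, ← mul_assoc x v, hxv, mul_assoc, sq_of_orderOf_two hx, mul_one]
        · intro e'
          exact hoF (by rw [eq_inv_of_mul_eq_one_left e', hvinv]; exact mem_sup_right (mem_zpowers v))
        · intro e'
          refine hoF ?_
          rw [eq_mul_inv_of_mul_eq e', hvinv]
          exact mul_mem (mem_sup_left (mem_zpowers x)) (mem_sup_right (mem_zpowers v))
      · rw [e] at hv'k
        exact absurd hv'k.symm hcomm
      · rw [e] at hv'k
        refine absurd ?_ hcomm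
        rw [← mul_assoc, ← hxv', mul_assoc x v', mul_assoc x v] at hv'k
        exact (mul_left_cancel hv'k).symm
    · refine hQ8 _ (eight_sup_zpowers hF hF4 hk2 (fun a ha => ?_) hkF)
        (sup_le hFQ (zpowers_le.mpr hkQ))
      have hkx : x * k = k * x := (mem_centralizer_singleton_iff.mp (hTx (hQT hkQ))).symm
      rcases mem_four hx hv hxv ha with rfl | rfl | rfl | rfl
      · simp
      · exact hkx
      · exact hkv.symm
      · exact ((show Commute x k from hkx).mul_left hkv.symm).eq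
  push Not at hex
  -- `x` lies in `O_{2',2}(C(v))`
  have hxppv : x ∈ pp v := by
    have hmax0 : ∀ S ≤ C ⊓ centralizer ({v} : Set G), IsPGroup 2 S → T0 ≤ S → S ≤ T0 := by
      intro S hS hS2 hle
      by_contra hne
      have hlt : T0 < S := lt_of_le_not_ge hle hne
      have hT0p : IsPGroup 2 T0 := hT.to_le inf_le_left
      obtain ⟨n, hn⟩ := hT0p.exists_card_eq
      obtain ⟨m, hm⟩ := hS2.exists_card_eq
      have hlt' : Nat.card T0 < Nat.card S :=
        lt_of_not_ge fun hge => hne (eq_of_le_of_card_ge hle hge).ge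
      have hnm : n < m := by
        by_contra hh
        have := Nat.pow_le_pow_right (show 0 < 2 by norm_num) (not_lt.mp hh)
        omega
      have hTle : Nat.card T ≤ 2 * Nat.card T0 := by
        have h2 : (centralizer ({v} : Set G)).relIndex T ≤ 2 := relIndex_le_two htwo
        have h3 := ((centralizer ({v} : Set G)).subgroupOf T).card_mul_index
        have h4 : Nat.card ↥((centralizer ({v} : Set G)).subgroupOf T) = Nat.card T0 := by
          rw [← card_map_of_injective (K := (centralizer ({v} : Set G)).subgroupOf T) T.subtype_injective,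
            subgroupOf_map_subtype, inf_comm]
        rw [h4] at h3
        have := Nat.mul_le_mul_left (Nat.card T0) h2
        rw [← h3, mul_comm 2]
        exact this
      have hST : Nat.card T ≤ Nat.card S := by
        have : 2 ^ (n + 1) ≤ 2 ^ m := Nat.pow_le_pow_right (by norm_num) hnm
        rw [pow_succ'] at this
        rw [hm]
        rw [hn] at hTle
        exact hTle.trans this
      obtain ⟨c, hc, hcS⟩ := hTconj S (hS.trans inf_le_left) hS2
      have heq : cj c S = T := eq_of_le_of_card_ge hcS (by rw [card_cj]; exact hST)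
      -- so `c v c⁻¹` is centralised by `T`
      have hcT : ∀ t ∈ T, t * (c * v * c⁻¹) = (c * v * c⁻¹) * t := by
        intro t ht
        rw [← heq, mem_cj] at ht
        have h5 := mem_centralizer_singleton_iff.mp (hS ht).2
        calc t * (c * v * c⁻¹) = c * ((c⁻¹ * t * c) * v) * c⁻¹ := by group
          _ = c * (v * (c⁻¹ * t * c)) * c⁻¹ := by rw [h5]
          _ = _ := by group
      have hcC : ∀ y ∈ T, c * y * c⁻¹ ∈ C := fun y hy => mul_mem (mul_mem hc (hTx hy)) (inv_mem hc)
      haveI := CfsgLib.Core.normal_pPrimeCore 2 C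
      obtain ⟨r, hr, -, hrk⟩ := exists_mul_core R ((mem_pp (hcC v' hv'T)).mp
        ((mem_normalizer_iff.mp (centralizer_le_normalizer_pp x hc) v').mp hv'Q.2))
      set K := Cfsg.pPrimeCore 2 C
      have hπ : QuotientGroup.mk' K ⟨_, hcC v' hv'T⟩ = QuotientGroup.mk' K r := (QuotientGroup.eq.mpr hrk).symm
      have hcomr : r * (⟨_, hcC v (hQT hvQ)⟩ : C) = ⟨_, hcC v (hQT hvQ)⟩ * r :=
        Subtype.ext (hcT r ((hRm r).mp hr))
      have hxK : (⟨x, hxC⟩ : C) ∈ K := by
        refine (QuotientGroup.eq_one_iff _).mp (?_ : QuotientGroup.mk' K ⟨x, hxC⟩ = 1)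
        have e1 : (⟨x, hxC⟩ : C) = (⟨_, hcC v (hQT hvQ)⟩ : C)⁻¹ *
            (⟨_, hcC v' hv'T⟩ * ⟨_, hcC v (hQT hvQ)⟩ * (⟨_, hcC v' hv'T⟩ : C)⁻¹) := by
          refine Subtype.ext ?_
          show x = (c * v * c⁻¹)⁻¹ * (c * v' * c⁻¹ * (c * v * c⁻¹) * (c * v' * c⁻¹)⁻¹)
          rw [show (c * v * c⁻¹)⁻¹ * (c * v' * c⁻¹ * (c * v * c⁻¹) * (c * v' * c⁻¹)⁻¹) =
            c * (v⁻¹ * (v' * v * v'⁻¹)) * c⁻¹ by group, hv'v, inv_mul_cancel_left,
            mem_centralizer_singleton_iff.mp hc, mul_inv_cancel_right]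
        rw [e1, map_mul, map_mul, map_mul, map_inv, map_inv, hπ, ← map_mul, hcomr, map_mul,
          mul_inv_cancel_right, inv_mul_cancel]
      have hodd : Odd (orderOf (⟨x, hxC⟩ : C)) := (CfsgLib.ZStar.odd_card_oddCore C).of_dvd_nat
        (Subgroup.orderOf_dvd_natCard _ hxK)
      rw [← Subgroup.orderOf_coe] at hodd
      change Odd (orderOf x) at hodd
      rw [hx] at hodd
      exact Nat.not_odd_iff_even.mpr even_two hodd
    obtain ⟨R0, hT0R, hR0v, hR0, hR0max, -⟩ :=
      exists_sylow_in (hT.to_le (inf_le_left : T0 ≤ T)) (inf_le_right : T0 ≤ centralizer ({v} : Set G))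
    have hxCv : x ∈ centralizer ({v} : Set G) := hx0.2
    by_cases hR0x : R0 ≤ C
    · refine (mem_pp hxCv).mpr (mem_of_centralize (sylowOfMax hR0v hR0 hR0max) (h.layer v hv)
        fun r hr _ => Subtype.ext ?_)
      exact (mem_centralizer_singleton_iff.mp (hR0x ((mem_sylowOfMax hR0v hR0 hR0max).mp hr))).symm
    have hne : ¬ R0 ≤ T0 := fun h' => hR0x (h'.trans ((inf_le_left : T0 ≤ T).trans hTx))
    obtain ⟨t, htR, htN, htT0⟩ := CfsgLib.Techniques.exists_mem_normalizer_not_mem hR0 hT0R hne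
    have htx : t ∉ C := fun htC => htT0 (hmax0 (T0 ⊔ zpowers t)
      (sup_le (le_inf ((inf_le_left : T0 ≤ T).trans hTx) inf_le_right)
        (zpowers_le.mpr ⟨htC, hR0v htR⟩))
      (hR0.to_le (sup_le hT0R (zpowers_le.mpr htR))) le_sup_left (mem_sup_right (mem_zpowers t)))
    have ho : t * x * t⁻¹ ∈ T0 := (mem_normalizer_iff.mp htN x).mp hx0
    have htv : t * v * t⁻¹ = v := by
      rw [mem_centralizer_singleton_iff.mp (hR0v htR), mul_inv_cancel_right]
    have hoF : t * x * t⁻¹ ∈ F := hex _ ho (by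
      rw [show t * x * t⁻¹ * (t * x * t⁻¹) = t * (x * x) * t⁻¹ by group, sq_of_orderOf_two hx, mul_one,
        mul_inv_cancel]) fun y hy => by
      have hy' := (mem_normalizer_iff''.mp htN y).mp hy
      have h6 : t⁻¹ * y * t * x = x * (t⁻¹ * y * t) := mem_centralizer_singleton_iff.mp (hTx hy'.1)
      calc t * x * t⁻¹ * y = t * (x * (t⁻¹ * y * t)) * t⁻¹ := by group
        _ = t * (t⁻¹ * y * t * x) * t⁻¹ := by rw [h6]
        _ = _ := by group
    have htxv : t * x * t⁻¹ = x * v := by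
      rcases mem_four hx hv hxv hoF with e | e | e | e
      · exact absurd (conj_eq_one_iff.mp e) hx1
      · exact absurd (mem_centralizer_singleton_iff.mpr (mul_inv_eq_iff_eq_mul.mp e)) htx
      · exact absurd (mul_left_cancel (mul_right_cancel (e.trans htv.symm))) hvx.symm
      · exact e
    have hv'x2 : v' * x * v'⁻¹ = x := by rw [← hxv', mul_inv_cancel_right]
    have hswapx : t * v' * t * x * (t * v' * t)⁻¹ = v := by
      calc t * v' * t * x * (t * v' * t)⁻¹ = t * (v' * (t * x * t⁻¹) * v'⁻¹) * t⁻¹ := by group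
        _ = t * ((v' * x * v'⁻¹) * (v' * v * v'⁻¹)) * t⁻¹ := by rw [htxv]; group
        _ = t * v * t⁻¹ := by
          rw [hv'x2, hv'v, show x * (v * x) = v by
            rw [← hxv, ← mul_assoc, sq_of_orderOf_two hx, one_mul]]
        _ = v := htv
    have hswapv : t * v' * t * v * (t * v' * t)⁻¹ = x := by
      calc t * v' * t * v * (t * v' * t)⁻¹ = t * (v' * (t * v * t⁻¹) * v'⁻¹) * t⁻¹ := by group
        _ = t * (v * x) * t⁻¹ := by rw [htv, hv'v]
        _ = (t * v * t⁻¹) * (t * x * t⁻¹) := by group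
        _ = x := by rw [htv, htxv, ← mul_assoc, ← hxv, mul_assoc, sq_of_orderOf_two hv, mul_one]
    have := pp_conj (t * v' * t) hvQ.2
    rwa [hswapx, hswapv] at this
  -- transport to `F'`
  have hxv'pp : x ∈ pp v' := by
    have := pp_conj g hxppv
    rwa [hgx, ← hv'def] at this
  have hxxv'pp : x ∈ pp (x * v') := by
    have h1 := pp_conj v' hxppv
    rw [← hxv', mul_inv_cancel_right, hv'v] at h1
    have h2 := pp_conj g h1
    rwa [hgx, show g * (v * x) * g⁻¹ = (g * v * g⁻¹) * (g * x * g⁻¹) by group, hgx, ← hv'def,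
      ← hxv'] at h2
  have hxv'2 : orderOf (x * v') = 2 := by
    refine orderOf_two ?_ fun e => hv'x ?_
    · rw [mul_assoc, ← mul_assoc v', ← hxv', mul_assoc, sq_of_orderOf_two hv', mul_one,
        sq_of_orderOf_two hx]
    · rw [eq_inv_of_mul_eq_one_right e, hxinv]
  have hWF' : W ≤ clo F' := by
    refine Solv.le_of_fixed_le (p := 2) hF' hF'4
      (sup_le (zpowers_le.mpr hxM) (zpowers_le.mpr (hTM hv'T)))
      (fun hd => Nat.not_even_iff_odd.mpr hWodd (even_iff_two_dvd.mpr hd)) fun y hy hy1 => ?_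
    refine le_trans ?_ (le_closure hy hy1)
    have hy2 : orderOf y = 2 := elementary_orderOf hF' hy hy1
    have hyx : x * y = y * x := elementary_comm hF' (mem_sup_left (mem_zpowers x)) hy
    have hbase : (W ⊓ centralizer ({y} : Set G)) ⊓ centralizer ({x} : Set G) ≤ core2 y :=
      fun w hw => h.balance hx hy2 hyx ⟨hWx ⟨hw.1.1, hw.2⟩, hw.1.2⟩
    have hnorm : x ∈ normalizer ((W ⊓ centralizer ({y} : Set G) : Subgroup G) : Set G) := by
      refine mem_normalizer_of_cj (eq_of_le_of_card_ge (cj_le_iff.mpr fun w hw => ?_) (card_cj _ _).ge)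
      exact mem_inf.mpr ⟨(mem_normalizer_iff.mp hxM w).mp hw.1, mul_mem (mul_mem
        (mem_centralizer_singleton_iff.mpr hyx) hw.2) (inv_mem (mem_centralizer_singleton_iff.mpr hyx))⟩
    rcases mem_four hx hv' hxv' hy with rfl | rfl | rfl | rfl
    · exact absurd rfl hy1
    · exact hWx
    · exact pp_absorb hx hxv'pp (odd_of_le inf_le_left hWodd) inf_le_right hnorm hbase
    · exact pp_absorb hx hxxv'pp (odd_of_le inf_le_left hWodd) inf_le_right hnorm hbase
  rw [hcloF'] at hWF'
  exact mem_normalizer_of_cj (eq_of_le_of_card_ge hWF' (card_cj g W).le).symm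

end CfsgLib.Bender.Dichotomy
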