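import Cfsg.Agent.Lib.Bender.Dichotomy.Center
import Cfsg.Agent.Lib.Bender.Gen.Wiring

/-!
Owner: helper14. In a core-free group of 2-rank at least three with trivial 2-layers of involution
centralisers, every involution centralised by an elementary subgroup of order eight, the cores of
involution centralisers are trivial.
-/

set_option autoImplicit false
set_option linter.style.haveILetI false
set_option linter.unusedSectionVars false
set_option maxHeartbeats 1000000

namespace CfsgLib.Bender.Dichotomy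

open Subgroup CfsgLib.Signalizer

universe u

local instance factTwoMain : Fact (Nat.Prime 2) := ⟨Nat.prime_two⟩

variable {G : Type u} [Group G] [Finite G]

/-- Every involution of `N(W)` centralises an elementary subgroup of order eight of `N(W)`. -/
theorem Hyp.exists_eight_in (h : Hyp G) {W : Subgroup G} (hWodd : Odd (Nat.card W))
    (hW : ∀ E : Subgroup G, Eight E → E ≤ normalizer (W : Set G) → clo E = W)
    {E0 S0 : Subgroup G} (hE0 : Eight E0) (hE0S : E0 ≤ S0) (hS0 : IsPGroup 2 S0)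
    (hS0M : S0 ≤ normalizer (W : Set G))
    {x : G} (hx : orderOf x = 2) (hxM : x ∈ normalizer (W : Set G)) :
    ∃ E : Subgroup G, Eight E ∧ E ≤ normalizer (W : Set G) ∧ E ≤ centralizer ({x} : Set G) := by
  by_contra hno
  push Not at hno
  have hx2 := sq_of_orderOf_two hx
  have hxi : x⁻¹ = x := involution_inv hx
  obtain ⟨T, hxT, hTC, hT, hTmax, -⟩ := exists_sylow_in (C := centralizer ({x} : Set G) ⊓ normalizer (W : Set G))
    (elementary_isPGroup (elem_zpowers hx2))
    (zpowers_le.mpr ⟨mem_centralizer_singleton_iff.mpr rfl, hxM⟩)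
  obtain ⟨S, hTS, hSM, hS, -, hSconj⟩ := exists_sylow_in hT (hTC.trans inf_le_right)
  obtain ⟨c, hcM, hcS⟩ := hSconj S0 hS0M hS0
  have hE : Eight (cj c E0) := cj_eight hE0
  have hES : cj c E0 ≤ S := (cj_mono hE0S).trans hcS
  have hTeq : S ⊓ centralizer ({x} : Set G) = T :=
    hTmax _ (le_inf inf_le_right (inf_le_left.trans hSM)) (hS.to_le inf_le_left)
      (le_inf hTS (hTC.trans inf_le_left))
  have hxT' : x ∈ T := hxT (mem_zpowers x)
  have hxS : x ∈ S := hTS hxT'
  obtain ⟨U, hUS, hU, hU4, hUn, hUi⟩ := exists_normalFour hS hE hES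
  obtain ⟨E', hE', hUE', hE'S, -⟩ := h.eight_over hU hU4.ge hUS hUi hE hES
  have hmemT : ∀ {y : G}, y ∈ S → y * x = x * y → y ∈ T := fun {y} hy hyx =>
    hTeq.le ⟨hy, mem_centralizer_singleton_iff.mpr hyx⟩
  have hnoT : ∀ E : Subgroup G, Eight E → ¬ E ≤ T := fun E h8 hle =>
    hno E h8 (hle.trans (hTC.trans inf_le_right)) (hle.trans (hTC.trans inf_le_left))
  have hxU : x ∉ centralizer (U : Set G) := by
    intro hxc
    by_cases hxmem : x ∈ U
    · exact hnoT E' hE' fun e he => hmemT (hE'S he) (elementary_comm hE'.1 he (hUE' hxmem))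
    · refine hnoT _ (eight_sup_zpowers hU hU4.ge hx2 (mem_centralizer_iff.mp hxc) hxmem)
        (sup_le (fun e he => hmemT (hUS he) (mem_centralizer_iff.mp hxc e he)) (zpowers_le.mpr hxT'))
  have hxnU : x ∉ U := fun hh => hxU (mem_centralizer_iff.mpr fun e he => elementary_comm hU he hh)
  obtain ⟨u, huU, hux⟩ : ∃ u ∈ U, u * x ≠ x * u := by
    by_contra hh
    push Not at hh
    exact hxU (mem_centralizer_iff.mpr hh)
  have hxn := hUn hxS
  have hu'U : x * u * x⁻¹ ∈ U := (mem_normalizer_iff.mp hxn u).mp huU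
  set z := u * (x * u * x⁻¹) with hz
  have hzU : z ∈ U := mul_mem huU hu'U
  have hu2 : u * u = 1 := elem_sq hU huU
  have hz1 : z ≠ 1 := fun e => hux (by
    rw [hz, mul_eq_one_iff_inv_eq, inv_eq_of_mul_eq_one_right hu2] at e
    exact eq_mul_inv_iff_mul_eq.mp e)
  have hz2 : z * z = 1 := elem_sq hU hzU
  have hxuz : x * u * x⁻¹ = u * z := by rw [hz, ← mul_assoc, hu2, one_mul]
  have hzx : z * x = x * z := by
    have e : x * z * x⁻¹ = z := by
      rw [hz, show x * (u * (x * u * x⁻¹)) * x⁻¹ = (x * u * x⁻¹) * (x * x * u * (x * x)⁻¹) by group,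
        hx2, inv_one, mul_one, one_mul]
      exact elementary_comm hU hu'U huU
    exact (mul_inv_eq_iff_eq_mul.mp e).symm
  have hzS : ∀ s ∈ S, z * s = s * z := by
    intro s hs
    by_cases hsK : s ∈ centralizer (U : Set G)
    · exact mem_centralizer_iff.mp hsK z hzU
    · have h1 := mem_centralizer_iff.mp (mul_mem_of_relIndex hUi hs hxS hsK hxU) z hzU
      rw [← mul_assoc, mul_assoc s x z, ← hzx, ← mul_assoc] at h1
      exact mul_right_cancel h1
  -- the only candidates for squares in `T`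
  have hsq : ∀ y ∈ T, orderOf (y * y) = 2 → y * y = z := by
    intro y hy hyy
    by_contra hne
    have hyT : y * y ∈ T := mul_mem hy hy
    have hyU : y * y ∈ centralizer (U : Set G) := sq_mem_of_relIndex hUi (hTS hy)
    have hwz : z * (y * y) = (y * y) * z := mem_centralizer_iff.mp hyU z hzU
    obtain ⟨hel, h4⟩ := four_of_pair (orderOf_two hz2 hz1) hyy (Ne.symm hne) hwz
    refine hnoT _ (eight_sup_zpowers hel h4 hx2 (fun a ha => ?_) fun hh => hxU ?_)
      (sup_le (sup_le (zpowers_le.mpr (hmemT (hUS hzU) hzx)) (zpowers_le.mpr hyT)) (zpowers_le.mpr hxT'))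
    · have hyx : y * y * x = x * (y * y) := mem_centralizer_singleton_iff.mp (hTC hyT).1
      exact mem_centralizer_singleton_iff.mp
        ((sup_le (zpowers_le.mpr (mem_centralizer_singleton_iff.mpr hzx))
          (zpowers_le.mpr (mem_centralizer_singleton_iff.mpr hyx)) : _ ≤ centralizer ({x} : Set G)) ha)
    · exact (sup_le (zpowers_le.mpr (mem_centralizer_iff.mpr fun e he => elementary_comm hU he hzU))
        (zpowers_le.mpr hyU) : _ ≤ centralizer (U : Set G)) hh
  -- an element of order four of `T`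
  obtain ⟨o, hoE, hoU⟩ : ∃ o ∈ E', o ∉ U := by
    by_contra hh
    push Not at hh
    have := hE'.2.trans (card_le_of_le hh)
    omega
  have hoc : o ∈ centralizer (U : Set G) :=
    mem_centralizer_iff.mpr fun e he => elementary_comm hE'.1 (hUE' he) hoE
  have hoS := hE'S hoE
  have ho2 := elem_sq hE'.1 hoE
  have hoi : o⁻¹ = o := inv_eq_of_mul_eq_one_right ho2
  set o' := x * o * x⁻¹ with ho'
  have ho'S : o' ∈ S := mul_mem (mul_mem hxS hoS) (inv_mem hxS)
  have ho'2 : o' * o' = 1 := by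
    rw [ho', show x * o * x⁻¹ * (x * o * x⁻¹) = x * (o * o) * x⁻¹ by group, ho2, mul_one, mul_inv_cancel]
  have ho'i : o'⁻¹ = o' := inv_eq_of_mul_eq_one_right ho'2
  have ho'c : o' ∈ centralizer (U : Set G) := mem_centralizer_iff.mpr fun e he => by
    have he' := (mem_normalizer_iff''.mp hxn e).mp he
    have h3 := mem_centralizer_iff.mp hoc _ he'
    calc e * o' = x * ((x⁻¹ * e * x) * o) * x⁻¹ := by rw [ho']; group
      _ = x * (o * (x⁻¹ * e * x)) * x⁻¹ := by rw [h3]
      _ = _ := by rw [ho']; group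
  have hxo' : x * o' * x⁻¹ = o := by
    rw [ho', show x * (x * o * x⁻¹) * x⁻¹ = (x * x) * o * (x * x)⁻¹ by group, hx2]; simp
  by_cases hoo : o * o' = o' * o
  · -- an elementary subgroup normalised by `x`
    have hA := elem_sup_zpowers hU ho2 (mem_centralizer_iff.mp hoc)
    have hB := elem_sup_zpowers hA ho'2 fun a ha => mem_centralizer_singleton_iff.mp
      ((sup_le (fun e he => mem_centralizer_singleton_iff.mpr (mem_centralizer_iff.mp ho'c e he))
        (zpowers_le.mpr (mem_centralizer_singleton_iff.mpr hoo)) :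
          U ⊔ zpowers o ≤ centralizer ({o'} : Set G)) ha)
    set B := U ⊔ zpowers o ⊔ zpowers o' with hB'
    have hA8 : Eight (U ⊔ zpowers o) := eight_sup_zpowers hU hU4.ge ho2 (mem_centralizer_iff.mp hoc) hoU
    have hB8 : 8 ≤ Nat.card B := hA8.2.trans (card_le_of_le le_sup_left)
    have hxB : x ∈ normalizer (B : Set G) := by
      refine mem_normalizer_of_cj (eq_of_le_of_card_ge ?_ (card_cj _ _).ge)
      rw [hB', cj, Subgroup.map_sup, Subgroup.map_sup, MonoidHom.map_zpowers, MonoidHom.map_zpowers]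
      refine sup_le (sup_le ((cj_of_mem_normalizer hxn).le.trans (le_sup_left.trans le_sup_left)) ?_) ?_
      · exact zpowers_le.mpr (mem_sup_right (mem_zpowers o'))
      · exact zpowers_le.mpr (show x * o' * x⁻¹ ∈ _ by rw [hxo']; exact mem_sup_left (mem_sup_right (mem_zpowers o)))
    have h4 := CoresGen.four_le_card_fixed hB hB8 hx2 hxB
    have hxnB : x ∉ B := fun hh => hxU ((sup_le (sup_le (fun e he => mem_centralizer_iff.mpr fun a ha => elementary_comm hU ha he)
      (zpowers_le.mpr hoc)) (zpowers_le.mpr ho'c) : B ≤ centralizer (U : Set G)) hh)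
    refine hnoT _ (eight_sup_zpowers (elementary_of_le hB inf_le_left) h4 hx2
      (fun a ha => mem_centralizer_singleton_iff.mp ha.2) fun hh => hxnB hh.1) ?_
    exact sup_le (fun a ha => hmemT ((sup_le (sup_le hUS (zpowers_le.mpr hoS)) (zpowers_le.mpr ho'S) :
      B ≤ S) ha.1) (mem_centralizer_singleton_iff.mp ha.2)) (zpowers_le.mpr hxT')
  set d := o * o' with hd
  have hdS : d ∈ S := mul_mem hoS ho'S
  have hdinv : d⁻¹ = o' * o := by rw [hd, mul_inv_rev, hoi, ho'i]
  have hxd : x * d * x⁻¹ = d⁻¹ := by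
    rw [hdinv, hd, show x * (o * o') * x⁻¹ = (x * o * x⁻¹) * (x * o' * x⁻¹) by group, hxo', ← ho']
  obtain ⟨n, hn⟩ := IsPGroup.iff_orderOf.1 hS ⟨d, hdS⟩
  rw [← Subgroup.orderOf_coe] at hn
  change orderOf d = 2 ^ n at hn
  have hn2 : 2 ≤ n := by
    by_contra hh
    refine hoo ?_
    have hd2 : d ^ 2 = 1 := orderOf_dvd_iff_pow_eq_one.mp
      (hn ▸ (pow_dvd_pow 2 (show n ≤ 1 by omega)).trans (by norm_num))
    have h1 : d = d⁻¹ := eq_inv_of_mul_eq_one_left (by rw [← pow_two]; exact hd2)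
    rw [hdinv] at h1
    exact h1
  set d4 := d ^ (2 ^ (n - 2)) with hd4
  have hord4 : orderOf d4 = 4 := by
    rw [hd4, orderOf_pow' _ (by positivity), hn, Nat.gcd_eq_right (pow_dvd_pow 2 (Nat.sub_le n 2)),
      Nat.pow_div (Nat.sub_le n 2) two_pos, show n - (n - 2) = 2 by omega]
    norm_num
  have hd4S : d4 ∈ S := pow_mem hdS _
  have hd4c : d4 ∈ centralizer (U : Set G) := pow_mem (mul_mem hoc ho'c) _
  have hxd4 : x * d4 * x⁻¹ = d4⁻¹ := by rw [hd4, ← conj_pow, hxd, inv_pow]
  have he2 : orderOf (d4 * d4) = 2 := by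
    rw [← pow_two, orderOf_pow' _ two_ne_zero, hord4]
    norm_num
  have hde : (d4 * d4)⁻¹ = d4 * d4 := involution_inv he2
  have hex2 : d4 * d4 * x = x * (d4 * d4) := by
    refine (mul_inv_eq_iff_eq_mul.mp ?_).symm
    rw [show x * (d4 * d4) * x⁻¹ = (x * d4 * x⁻¹) * (x * d4 * x⁻¹) by group, hxd4, ← mul_inv_rev, hde]
  have he : d4 * d4 = z := by
    by_contra hne
    obtain ⟨hel, h4⟩ := four_of_pair (orderOf_two hz2 hz1) he2 (Ne.symm hne)
      (mem_centralizer_iff.mp (mul_mem hd4c hd4c) z hzU)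
    refine hnoT _ (eight_sup_zpowers hel h4 hx2 (fun a ha => ?_) fun hh => hxU ?_)
      (sup_le (sup_le (zpowers_le.mpr (hmemT (hUS hzU) hzx))
        (zpowers_le.mpr (hmemT (mul_mem hd4S hd4S) hex2))) (zpowers_le.mpr hxT'))
    · exact mem_centralizer_singleton_iff.mp
        ((sup_le (zpowers_le.mpr (mem_centralizer_singleton_iff.mpr hzx))
          (zpowers_le.mpr (mem_centralizer_singleton_iff.mpr hex2)) : _ ≤ centralizer ({x} : Set G)) ha)
    · exact (sup_le (zpowers_le.mpr (mem_centralizer_iff.mpr fun e he => elementary_comm hU he hzU))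
        (zpowers_le.mpr (mul_mem hd4c hd4c)) : _ ≤ centralizer (U : Set G)) hh
  set r := u * d4 with hr
  have hrT : r ∈ T := by
    refine hmemT (mul_mem (hUS huU) hd4S) (mul_inv_eq_iff_eq_mul.mp ?_).symm
    calc x * r * x⁻¹ = (x * u * x⁻¹) * (x * d4 * x⁻¹) := by rw [hr]; group
      _ = u * (d4 * d4) * d4⁻¹ := by rw [hxuz, hxd4, he]
      _ = r := by rw [hr]; group
  have hrr : r * r = z := by
    rw [hr, mul_assoc, ← mul_assoc d4 u, ← mem_centralizer_iff.mp hd4c u huU, ← mul_assoc,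
      ← mul_assoc, hu2, one_mul, he]
  -- go up inside `C(x)`
  obtain ⟨P, hTP, hPC, hP, -, hPconj⟩ := exists_sylow_in hT (hTC.trans inf_le_left)
  obtain ⟨B, hB, -, hBx⟩ := h.exists_eight hx
  obtain ⟨b, -, hbP⟩ := hPconj B hBx (elementary_isPGroup hB.1)
  have hne : ¬ P ≤ T := fun hle => hnoT _ (cj_eight hB) (hbP.trans hle)
  obtain ⟨t, htP, htN, htT⟩ := CfsgLib.Techniques.exists_mem_normalizer_not_mem hP hTP hne
  have hrt : t * r * t⁻¹ ∈ T := (mem_normalizer_iff.mp htN r).mp hrT
  have htz : t * z * t⁻¹ = z := by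
    have he' : t * r * t⁻¹ * (t * r * t⁻¹) = t * z * t⁻¹ := by
      rw [show t * r * t⁻¹ * (t * r * t⁻¹) = t * (r * r) * t⁻¹ by group, hrr]
    exact he'.symm.trans (hsq _ hrt (by rw [he', orderOf_conj]; exact orderOf_two hz2 hz1))
  have htM : t ∈ normalizer (W : Set G) := by
    refine h.centralizer_le hWodd hW (orderOf_two hz2 hz1) (hSM (hUS hzU)) hE' (hE'S.trans hSM)
      (fun e he => ?_) (mem_centralizer_singleton_iff.mpr (mul_inv_eq_iff_eq_mul.mp htz))
    exact mem_centralizer_singleton_iff.mpr (hzS e (hE'S he)).symm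
  refine htT ((hTmax (T ⊔ zpowers t) (sup_le hTC (zpowers_le.mpr ⟨hPC htP, htM⟩))
    (hP.to_le (sup_le hTP (zpowers_le.mpr htP))) le_sup_left).le (mem_sup_right (mem_zpowers t)))

/-- **The cores vanish**, from the general Bender theorem. -/
theorem Hyp.core2_eq_bot (h : Hyp G) (hB : CfsgLib.Bender.BenderGen.{u}) {x : G} (hx : orderOf x = 2) :
    core2 x = ⊥ := by
  obtain ⟨E0, hE0, -, -⟩ := h.exists_eight hx
  obtain ⟨S0, hE0S, -, hS0, hS0max, hS0conj⟩ :=
    exists_sylow_in (elementary_isPGroup hE0.1) (le_top : E0 ≤ ⊤)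
  set W := clo E0 with hWdef
  have hWodd := h.odd_clo hE0
  rw [← hWdef] at hWodd
  by_cases hW1 : W = ⊥
  · obtain ⟨E, hE, hxE, -⟩ := h.exists_eight hx
    obtain ⟨c, -, hc⟩ := hS0conj E le_top (elementary_isPGroup hE.1)
    have h1 : cj c (clo E) = ⊥ := by
      rw [← clo_cj, h.clo_eq_of_two_group hS0 (cj_eight hE) hc hE0 hE0S, ← hWdef, hW1]
    have h2 : clo E = ⊥ := by rw [← cj_inv_cancel c (clo E), h1, cj_bot]
    exact le_bot_iff.mp (h2 ▸ le_closure hxE (ne_one_of_orderOf_two hx))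
  exfalso
  have hMne : normalizer (W : Set G) ≠ ⊤ := fun htop => hW1 (le_bot_iff.mp (h.core ▸
    CfsgLib.ZStar.le_oddCore (normalizer_eq_top_iff.mp htop) hWodd))
  have hS0M : S0 ≤ normalizer (W : Set G) := fun s hs => by
    refine mem_normalizer_of_cj ?_
    rw [hWdef, ← clo_cj]
    exact h.clo_eq_of_two_group hS0 (cj_eight hE0)
      (cj_le_iff.mpr fun e he => mul_mem (mul_mem hs (hE0S he)) (inv_mem hs)) hE0 hE0S
  have hW : ∀ E : Subgroup G, Eight E → E ≤ normalizer (W : Set G) → clo E = W := by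
    intro E hE hEM
    obtain ⟨R, hSR, -, hR, -, hRconj⟩ := exists_sylow_in hS0 hS0M
    rw [hS0max R le_top hR hSR] at hRconj
    obtain ⟨m, hm, hmS⟩ := hRconj E hEM (elementary_isPGroup hE.1)
    have h1 : cj m (clo E) = W := by
      rw [← clo_cj, h.clo_eq_of_two_group hS0 (cj_eight hE) hmS hE0 hE0S]
    rw [← cj_inv_cancel m (clo E), h1]
    exact cj_of_mem_normalizer (inv_mem hm)
  have hcl : ∀ t : G, orderOf t = 2 → t ∈ normalizer (W : Set G) →
      centralizer ({t} : Set G) ≤ normalizer (W : Set G) := by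
    intro t ht htM
    obtain ⟨E, hE, hEM, hEt⟩ := h.exists_eight_in hWodd hW hE0 hE0S hS0 hS0M ht htM
    exact h.centralizer_le hWodd hW ht htM hE hEM hEt
  obtain ⟨s, t, hsE, htE, hs, ht, hst⟩ : ∃ s t : G, s ∈ E0 ∧ t ∈ E0 ∧ orderOf s = 2 ∧ orderOf t = 2 ∧ s ≠ t := by
    obtain ⟨s, hsE, hs1⟩ : ∃ s ∈ E0, s ∉ (⊥ : Subgroup G) := by
      by_contra hh
      push Not at hh
      have := hE0.2.trans (card_le_of_le hh)
      simp at this
    rw [mem_bot] at hs1
    have hs := elementary_orderOf hE0.1 hsE hs1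
    obtain ⟨t, htE, ht1⟩ : ∃ t ∈ E0, t ∉ zpowers s := by
      by_contra hh
      push Not at hh
      have := hE0.2.trans (card_le_of_le hh)
      rw [Nat.card_zpowers, hs] at this
      omega
    have ht1' : t ≠ 1 := fun e => ht1 (e ▸ one_mem _)
    exact ⟨s, t, hsE, htE, hs, elementary_orderOf hE0.1 htE ht1', fun e => ht1 (e ▸ mem_zpowers s)⟩
  have hsM := hS0M (hE0S hsE)
  have heven : Even (Nat.card ↥(normalizer (W : Set G))) := by
    rw [even_iff_two_dvd, ← hs]
    exact Subgroup.orderOf_dvd_natCard _ hsM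
  have hSE : Cfsg.IsStronglyEmbedded (normalizer (W : Set G)) := by
    refine ⟨hMne, heven, fun g hg => ?_⟩
    by_contra hev
    obtain ⟨a, ha, ha2⟩ := exists_involution_of_even (Nat.not_odd_iff_even.mp hev)
    obtain ⟨haM, b, hbM, hba⟩ := ha
    refine hg ?_
    have hb2 : orderOf b = 2 := by
      rw [← orderOf_conj g b]
      rw [show g * b * g⁻¹ = a from hba]; exact ha2
    obtain ⟨E, hE, hEM, hEb⟩ := h.exists_eight_in hWodd hW hE0 hE0S hS0 hS0M hb2 hbM
    have h2 : cj g E ≤ normalizer (W : Set G) := by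
      refine cj_le_iff.mpr fun e he => hcl a ha2 haM (mem_centralizer_singleton_iff.mpr ?_)
      rw [← show g * b * g⁻¹ = a from hba,
        show g * e * g⁻¹ * (g * b * g⁻¹) = g * (e * b) * g⁻¹ by group,
        mem_centralizer_singleton_iff.mp (hEb he)]
      group
    refine mem_normalizer_of_cj ?_
    have e := hW _ (cj_eight (g := g) hE) h2
    rwa [clo_cj, hW _ hE hEM] at e
  have hcore : (Cfsg.oddCore ↥(normalizer (W : Set G))).map (normalizer (W : Set G)).subtype ≤ ⊥ :=
    h.core ▸ CfsgLib.Bender.core_in_core_of_benderGen hB hSE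
  refine hW1 (le_bot_iff.mp (le_trans ?_ hcore))
  have hle : W ≤ normalizer (W : Set G) := Subgroup.le_normalizer
  refine (map_subgroupOf_eq_of_le hle).ge.trans
    (map_mono (CfsgLib.ZStar.le_oddCore Subgroup.normal_in_normalizer ?_))
  rwa [Nat.card_congr (subgroupOfEquivOfLe hle).toEquiv]

end CfsgLib.Bender.Dichotomy
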