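import Cfsg.Agent.Lib.Signalizer.General.Equivariant
import Cfsg.Agent.Lib.Signalizer.CoresGenerate
import Cfsg.Agent.Lib.Core.TwoTimesPSL.NormalFour
import Cfsg.Agent.S0205

/-!
Owner: helper14. Cores of involution centralisers in a group of 2-rank at least three whose involution
centralisers have trivial 2-layer: one closure for all elementary subgroups of order eight in a
Sylow 2-subgroup.
-/

set_option autoImplicit false
set_option linter.style.haveILetI false
set_option linter.unusedSectionVars false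

namespace CfsgLib.Bender.Dichotomy

open Subgroup CfsgLib.Signalizer CfsgLib.Signalizer.Gen

universe u

local instance factTwo : Fact (Nat.Prime 2) := ⟨Nat.prime_two⟩

variable {G : Type u} [Group G]

/-- `O(C(x))`. -/
abbrev core2 (x : G) : Subgroup G := Cfsg.centralizerPPrimeCore 2 x

/-- An elementary abelian 2-subgroup of order at least eight. -/
abbrev Eight (E : Subgroup G) : Prop := Cfsg.IsElementaryAbelian 2 E ∧ 8 ≤ Nat.card E

/-- The subgroup generated by the cores of the involutions of `E`. -/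
abbrev clo (E : Subgroup G) : Subgroup G := Cfsg.signalizerClosure E (fun x => core2 x)

/-- The standing hypotheses. -/
structure Hyp (G : Type u) [Group G] : Prop where
  core : Cfsg.oddCore G = ⊥
  layer : ∀ x : G, orderOf x = 2 → Cfsg.pLayer 2 ↥(centralizer ({x} : Set G)) = ⊥
  big : ∀ x : G, orderOf x = 2 → BigPt 2 x

/-- The conjugate of a subgroup. -/
def cj (g : G) (H : Subgroup G) : Subgroup G := H.map (MulAut.conj g).toMonoidHom

theorem mem_cj {g y : G} {H : Subgroup G} : y ∈ cj g H ↔ g⁻¹ * y * g ∈ H := by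
  constructor
  · rintro ⟨z, hz, rfl⟩
    show g⁻¹ * (g * z * g⁻¹) * g ∈ H
    rwa [show g⁻¹ * (g * z * g⁻¹) * g = z by group]
  · exact fun h => ⟨_, h, show g * (g⁻¹ * y * g) * g⁻¹ = y by group⟩

theorem conj_mem_cj {g y : G} {H : Subgroup G} (h : y ∈ H) : g * y * g⁻¹ ∈ cj g H := ⟨y, h, rfl⟩

theorem cj_le_iff {g : G} {H K : Subgroup G} : cj g H ≤ K ↔ ∀ y ∈ H, g * y * g⁻¹ ∈ K :=
  map_le_iff_le_comap

theorem cj_mono {g : G} {H K : Subgroup G} (h : H ≤ K) : cj g H ≤ cj g K := map_mono h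

theorem cj_cj (g h : G) (H : Subgroup G) : cj g (cj h H) = cj (g * h) H := by
  ext y; simp only [mem_cj, mul_inv_rev, mul_assoc]

theorem cj_one (H : Subgroup G) : cj 1 H = H := by ext y; simp [mem_cj]

theorem cj_inv_cancel (g : G) (H : Subgroup G) : cj g⁻¹ (cj g H) = H := by
  rw [cj_cj, inv_mul_cancel, cj_one]

theorem card_cj (g : G) (H : Subgroup G) : Nat.card (cj g H) = Nat.card H :=
  card_map_of_injective (MulAut.conj g).injective

theorem cj_bot (g : G) : cj g (⊥ : Subgroup G) = ⊥ := map_bot _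

theorem mem_normalizer_of_cj {g : G} {H : Subgroup G} (h : cj g H = H) :
    g ∈ normalizer (H : Set G) := by
  rw [mem_normalizer_iff]
  intro y
  conv_rhs => rw [← h, mem_cj]
  simp [mul_assoc]

theorem cj_of_mem_normalizer {g : G} {H : Subgroup G} (h : g ∈ normalizer (H : Set G)) :
    cj g H = H := by
  ext y
  rw [mem_cj, ← mem_normalizer_iff''.mp h y]

section Elementary

variable [Finite G]

theorem elem_of_sq {A : Subgroup G} (h : ∀ a ∈ A, a * a = 1) : Cfsg.IsElementaryAbelian 2 A := by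
  have hinv : ∀ a ∈ A, a⁻¹ = a := fun a ha => inv_eq_of_mul_eq_one_right (h a ha)
  refine ⟨⟨⟨fun a b => Subtype.ext ?_⟩⟩, fun a ha => by rw [pow_two]; exact h a ha⟩
  have h3 := hinv _ (A.mul_mem a.2 b.2)
  rw [mul_inv_rev, hinv _ a.2, hinv _ b.2] at h3
  exact h3.symm

theorem elem_sq {A : Subgroup G} (hA : Cfsg.IsElementaryAbelian 2 A) {a : G} (ha : a ∈ A) :
    a * a = 1 := by rw [← pow_two]; exact hA.2 a ha

theorem orderOf_two {a : G} (h : a * a = 1) (h1 : a ≠ 1) : orderOf a = 2 :=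
  orderOf_eq_prime (by rw [pow_two]; exact h) h1

theorem sq_of_orderOf_two {a : G} (h : orderOf a = 2) : a * a = 1 := by
  rw [← pow_two, ← h, pow_orderOf_eq_one]

theorem ne_one_of_orderOf_two {a : G} (h : orderOf a = 2) : a ≠ 1 := fun e => by
  rw [e, orderOf_one] at h; omega

theorem elem_zpowers {x : G} (hx : x * x = 1) : Cfsg.IsElementaryAbelian 2 (zpowers x) :=
  elem_of_sq fun a ha => by
    obtain ⟨j, rfl⟩ := mem_zpowers_iff.mp ha
    rw [← (Commute.refl x).mul_zpow, hx, one_zpow]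

theorem cj_elem {g : G} {A : Subgroup G} (hA : Cfsg.IsElementaryAbelian 2 A) :
    Cfsg.IsElementaryAbelian 2 (cj g A) := map_isElementary _ hA

theorem cj_eight {g : G} {A : Subgroup G} (hA : Eight A) : Eight (cj g A) :=
  ⟨cj_elem hA.1, by rw [card_cj]; exact hA.2⟩

theorem eight_of_lt {A B : Subgroup G} (hB : Cfsg.IsElementaryAbelian 2 B) (hAB : A < B)
    (hA : 4 ≤ Nat.card A) : Eight B := by
  refine ⟨hB, ?_⟩
  obtain ⟨k, hk⟩ := (elementary_isPGroup hB).exists_card_eq
  have hlt : Nat.card A < Nat.card B :=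
    lt_of_not_ge fun hge => hAB.ne (eq_of_le_of_card_ge hAB.le hge)
  rw [hk] at hlt ⊢
  rcases le_or_gt 3 k with h3 | h3
  · exact le_trans (by norm_num : 8 ≤ 2 ^ 3) (Nat.pow_le_pow_right (by norm_num : 0 < 2) h3)
  · have : 2 ^ k ≤ 2 ^ 2 := Nat.pow_le_pow_right (by norm_num) (by omega)
    omega

theorem elem_sup_zpowers {A : Subgroup G} {x : G} (hA : Cfsg.IsElementaryAbelian 2 A) (hx : x * x = 1)
    (hc : ∀ a ∈ A, a * x = x * a) : Cfsg.IsElementaryAbelian 2 (A ⊔ zpowers x) :=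
  elementary_sup hA (elem_zpowers hx)
    (zpowers_le.mpr (mem_centralizer_iff.mpr hc))

theorem eight_sup_zpowers {A : Subgroup G} {x : G} (hA : Cfsg.IsElementaryAbelian 2 A) (h4 : 4 ≤ Nat.card A)
    (hx : x * x = 1) (hc : ∀ a ∈ A, a * x = x * a) (hxA : x ∉ A) : Eight (A ⊔ zpowers x) :=
  eight_of_lt (elem_sup_zpowers hA hx hc)
    (lt_of_le_not_ge le_sup_left fun h => hxA (h (mem_sup_right (mem_zpowers x)))) h4

/-- Two commuting involutions generate a four-group. -/
theorem four_of_pair {a b : G} (ha : orderOf a = 2) (hb : orderOf b = 2) (hne : a ≠ b)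
    (hc : a * b = b * a) :
    Cfsg.IsElementaryAbelian 2 (zpowers a ⊔ zpowers b) ∧
      4 ≤ Nat.card ↥(zpowers a ⊔ zpowers b) := by
  have hel := elem_sup_zpowers (elem_zpowers (sq_of_orderOf_two ha)) (sq_of_orderOf_two hb) (fun y hy => by
    obtain ⟨j, rfl⟩ := mem_zpowers_iff.mp hy
    exact ((show Commute a b from hc).zpow_left j).eq)
  refine ⟨hel, ?_⟩
  obtain ⟨k, hk⟩ := (elementary_isPGroup hel).exists_card_eq
  have hlt : 2 < Nat.card ↥(zpowers a ⊔ zpowers b) := by
    refine lt_of_not_ge fun hge => hne ?_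
    have h1 : zpowers a = zpowers a ⊔ zpowers b := eq_of_le_of_card_ge le_sup_left
      (by rw [Nat.card_zpowers, ha]; exact hge)
    have hbm : b ∈ zpowers a := h1.ge (mem_sup_right (mem_zpowers b))
    obtain ⟨j, hj⟩ := mem_zpowers_iff.mp hbm
    have ha2 : a ^ 2 = 1 := by rw [pow_two]; exact sq_of_orderOf_two ha
    rw [zpow_eq_zpow_emod' j ha2] at hj
    rcases Int.emod_two_eq j with e | e <;> simp [e] at hj
    · exact absurd hj.symm (ne_one_of_orderOf_two hb)
    · exact hj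
  rw [hk] at hlt ⊢
  exact Nat.pow_le_pow_right (by norm_num : 0 < 2) (show 2 ≤ k by
    by_contra hh
    have : 2 ^ k ≤ 2 ^ 1 := Nat.pow_le_pow_right (by norm_num) (by omega)
    omega)

/-- Products inside a subgroup of index at most two. -/
theorem mul_mem_of_relIndex {K S : Subgroup G} (h : K.relIndex S ≤ 2) {a b : G} (ha : a ∈ S)
    (hb : b ∈ S) (haK : a ∉ K) (hbK : b ∉ K) : a * b ∈ K := by
  have h0 : K.relIndex S ≠ 0 := Subgroup.index_ne_zero_of_finite
  have h2 : (K.subgroupOf S).index = 2 := by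
    have h1 : K.relIndex S ≠ 1 := fun e => haK (Subgroup.relIndex_eq_one.mp e ha)
    show K.relIndex S = 2
    omega
  have h3 := (Subgroup.mul_mem_iff_of_index_two h2 (a := (⟨a, ha⟩ : S)) (b := ⟨b, hb⟩))
  simp only [mem_subgroupOf] at h3
  exact h3.mpr ⟨fun h' => absurd h' haK, fun h' => absurd h' hbK⟩

theorem sq_mem_of_relIndex {K S : Subgroup G} (h : K.relIndex S ≤ 2) {a : G} (ha : a ∈ S) :
    a * a ∈ K := by
  by_cases haK : a ∈ K
  · exact K.mul_mem haK haK
  · exact mul_mem_of_relIndex h ha ha haK haK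

/-- The part in a subgroup of index at most two of an elementary subgroup of order eight. -/
theorem four_le_inf {K S E : Subgroup G} (h : K.relIndex S ≤ 2) (hE : Eight E) (hES : E ≤ S) :
    4 ≤ Nat.card ↥(E ⊓ K) := by
  have h0 : K.relIndex S ≠ 0 := Subgroup.index_ne_zero_of_finite
  have h1 := (Subgroup.relIndex_le_of_le_right hES h0).trans h
  have h2 := (K.subgroupOf E).card_mul_index
  have h3 : Nat.card ↥(K.subgroupOf E) = Nat.card ↥(E ⊓ K) := by
    rw [← card_map_of_injective (K := K.subgroupOf E) E.subtype_injective, subgroupOf_map_subtype,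
      inf_comm]
  rw [h3] at h2
  have h4 : Nat.card ↥(E ⊓ K) * (K.subgroupOf E).index ≤ Nat.card ↥(E ⊓ K) * 2 :=
    Nat.mul_le_mul_left _ h1
  have := hE.2
  omega

/-- Every maximal choice: the 2-subgroups of `C` conjugate into a fixed one. -/
theorem exists_sylow_in {C R : Subgroup G} (hR : IsPGroup 2 R) (hRC : R ≤ C) :
    ∃ P : Subgroup G, R ≤ P ∧ P ≤ C ∧ IsPGroup 2 P ∧
      (∀ Q ≤ C, IsPGroup 2 Q → P ≤ Q → Q = P) ∧
      ∀ Q ≤ C, IsPGroup 2 Q → ∃ c ∈ C, cj c Q ≤ P := by
  obtain ⟨P, hP⟩ := (hR.comap_subtype (K := C)).exists_le_sylow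
  refine ⟨(P : Subgroup C).map C.subtype, fun r hr => ⟨⟨r, hRC hr⟩, hP hr, rfl⟩, map_subtype_le _,
    P.isPGroup'.map _, fun Q hQC hQ hle => ?_, fun Q hQC hQ => ?_⟩
  · refine le_antisymm (fun q hq => ?_) hle
    have h := P.is_maximal' (hQ.comap_subtype (K := C)) fun p hp => hle ⟨p, hp, rfl⟩
    exact ⟨⟨q, hQC hq⟩, h.le hq, rfl⟩
  · obtain ⟨P', hP'⟩ := (hQ.comap_subtype (K := C)).exists_le_sylow
    obtain ⟨c, hc⟩ := MulAction.exists_smul_eq C P' P
    refine ⟨c, c.2, cj_le_iff.mpr fun q hq => ⟨c * ⟨q, hQC hq⟩ * c⁻¹, ?_, rfl⟩⟩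
    rw [← hc]
    exact ⟨⟨q, hQC hq⟩, hP' hq, rfl⟩

theorem core2_le (x : G) : core2 x ≤ centralizer ({x} : Set G) := map_subtype_le _

theorem odd_core2 (x : G) : Odd (Nat.card ↥(core2 x)) :=
  CfsgLib.Classical.TwoType.odd_oC x

theorem core2_conj (a g : G) : core2 (g * a * g⁻¹) = cj g (core2 a) := by
  refine le_antisymm (fun z hz => ?_) ?_
  · have h := mem_centralizerPPrimeCore_map (MulAut.conj g).symm hz
    rw [show (MulAut.conj g).symm (g * a * g⁻¹) = a from (MulAut.conj g).symm_apply_apply a] at h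
    exact ⟨_, h, (MulAut.conj g).apply_symm_apply z⟩
  · rintro _ ⟨z, hz, rfl⟩
    exact mem_centralizerPPrimeCore_map (MulAut.conj g) hz

theorem clo_cj_le (g : G) (E : Subgroup G) : clo (cj g E) ≤ cj g (clo E) := by
  refine closure_le_iff.mpr ?_
  rintro _ ⟨e, he, rfl⟩ he1
  refine (core2_conj e g).le.trans (cj_mono (le_closure he fun h => he1 ?_))
  rw [h, map_one]

theorem clo_cj (g : G) (E : Subgroup G) : clo (cj g E) = cj g (clo E) := by
  refine le_antisymm (clo_cj_le g E) ?_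
  have h := cj_mono (g := g) (clo_cj_le g⁻¹ (cj g E))
  rwa [cj_inv_cancel, cj_cj g g⁻¹, mul_inv_cancel, cj_one] at h

namespace Hyp

variable (h : Hyp G) {E F : Subgroup G}
include h

theorem balance {x y : G} (hx : orderOf x = 2) (hy : orderOf y = 2) (hxy : x * y = y * x) :
    core2 x ⊓ centralizer ({y} : Set G) ≤ core2 y :=
  core_balance hx hxy (h.layer y hy)

theorem functor (hE : Eight E) :
    Cfsg.IsSolvableSignalizerFunctor 2 E (fun x => core2 x) :=
  solvable_functor_of_equivariant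
    (fun a _ => ⟨core2_le a,
      fun hd => Nat.not_even_iff_odd.mpr (odd_core2 a) (even_iff_two_dvd.mpr hd),
      Cfsg.Agent.S0205.result (odd_core2 a)⟩)
    (fun a g _ => core2_conj a g)
    (fun _ _ ha hb hab => h.balance ha.1 hb.1 hab) hE.1 hE.2

theorem clo_eq_of_le (hE : Eight E) (hFE : F ≤ E) (hF : 4 ≤ Nat.card F) : clo F = clo E :=
  (closure_eq_of_le hE.1 hE.2 (h.functor hE) hFE hF).1

theorem clo_mem (hE : Eight E) : clo E ∈ Cfsg.signalizerFamily 2 E (fun x => core2 x) :=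
  (closure_eq_of_le hE.1 hE.2 (h.functor hE) (le_refl E)
    (le_trans (by norm_num : (2 : ℕ) ^ 2 ≤ 8) hE.2)).2

theorem odd_clo (hE : Eight E) : Odd (Nat.card ↥(clo E)) :=
  Nat.not_even_iff_odd.mp fun he => Solv.fam_not_dvd (h.clo_mem hE) (even_iff_two_dvd.mp he)

theorem clo_fix (hE : Eight E) {a : G} (ha : a ∈ E) (ha1 : a ≠ 1) :
    clo E ⊓ centralizer ({a} : Set G) ≤ core2 a :=
  Solv.fam_fix (h.clo_mem hE) ha ha1

theorem exists_eight {x : G} (hx : orderOf x = 2) :
    ∃ E : Subgroup G, Eight E ∧ x ∈ E ∧ E ≤ centralizer ({x} : Set G) := by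
  obtain ⟨B, hBC, hB, hB8⟩ := exists_three_of_not_rankLE (h.big x hx).2
  have hel := elem_sup_zpowers hB (sq_of_orderOf_two hx) fun b hb =>
    mem_centralizer_singleton_iff.mp (hBC hb)
  exact ⟨B ⊔ zpowers x, ⟨hel, hB8.trans (card_le_of_le le_sup_left)⟩,
    mem_sup_right (mem_zpowers x), elementary_le_centralizer hel (mem_sup_right (mem_zpowers x))⟩

end Hyp

/-- A normal four-group of a 2-group with an elementary subgroup of order eight. -/
theorem exists_normalFour {S E : Subgroup G} (hS : IsPGroup 2 S) (hE : Eight E) (hES : E ≤ S) :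
    ∃ U : Subgroup G, U ≤ S ∧ Cfsg.IsElementaryAbelian 2 U ∧ Nat.card U = 4 ∧
      S ≤ normalizer (U : Set G) ∧ (centralizer (U : Set G)).relIndex S ≤ 2 := by
  obtain ⟨U, hUn, hU2, hU4, hUi⟩ := CfsgLib.Core.TwoTimesPSL.exists_normal_four (P := ↥S) hS
    (E := E.subgroupOf S) (fun x hx => Subtype.ext (elem_sq hE.1 (mem_subgroupOf.mp hx)))
    (by rw [Nat.card_congr (subgroupOfEquivOfLe hES).toEquiv]; exact hE.2)
  refine ⟨U.map S.subtype, map_subtype_le U, elem_of_sq ?_, ?_, ?_, ?_⟩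
  · rintro _ ⟨u, hu, rfl⟩
    rw [← map_mul, hU2 u hu, map_one]
  · rw [card_map_of_injective S.subtype_injective, hU4]
  · intro s hs
    exact le_normalizer_map S.subtype ⟨⟨s, hs⟩, (normalizer_eq_top U).ge (mem_top _), rfl⟩
  · have hle : centralizer (U : Set ↥S) ≤
        (centralizer ((U.map S.subtype : Subgroup G) : Set G)).subgroupOf S := by
      intro c hc
      refine mem_subgroupOf.mpr (mem_centralizer_iff.mpr ?_)
      rintro _ ⟨u, hu, rfl⟩
      exact congrArg Subtype.val (mem_centralizer_iff.mp hc u hu)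
    exact (Nat.le_of_dvd (Nat.pos_of_ne_zero Subgroup.index_ne_zero_of_finite)
      (Subgroup.index_dvd_of_le hle)).trans hUi

/-- The elementary subgroup of order eight over a normal four-group. -/
theorem Hyp.eight_over (h : Hyp G) {S U E : Subgroup G} (hU : Cfsg.IsElementaryAbelian 2 U)
    (hU4 : 4 ≤ Nat.card U) (hUS : U ≤ S) (hUi : (centralizer (U : Set G)).relIndex S ≤ 2)
    (hE : Eight E) (hES : E ≤ S) :
    ∃ E' : Subgroup G, Eight E' ∧ U ≤ E' ∧ E' ≤ S ∧ clo E = clo U := by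
  set A := E ⊓ centralizer (U : Set G) with hA
  have hA4 : 4 ≤ Nat.card A := four_le_inf hUi hE hES
  have hel := elementary_sup hU (elementary_of_le hE.1 (inf_le_left : A ≤ E)) inf_le_right
  by_cases hUA : A ≤ U
  · by_cases hAU : U ≤ A
    · exact ⟨E, hE, hAU.trans inf_le_left, hES, (h.clo_eq_of_le hE (hAU.trans inf_le_left) hU4).symm⟩
    · have h8 := eight_of_lt hU (lt_of_le_not_ge hUA hAU) hA4
      exact ⟨U, h8, le_rfl, hUS, (h.clo_eq_of_le hE inf_le_left hA4).symm.trans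
        (h.clo_eq_of_le h8 hUA hA4)⟩
  · have h8 := eight_of_lt hel (lt_of_le_not_ge le_sup_left fun hle => hUA (le_sup_right.trans hle)) hU4
    refine ⟨U ⊔ A, h8, le_sup_left, sup_le hUS (inf_le_left.trans hES), ?_⟩
    rw [← h.clo_eq_of_le hE (inf_le_left : A ≤ E) hA4, h.clo_eq_of_le h8 le_sup_right hA4,
      h.clo_eq_of_le h8 le_sup_left hU4]

/-- All elementary subgroups of order eight of a 2-group have the same closure. -/
theorem Hyp.clo_eq_of_two_group (h : Hyp G) {S E F : Subgroup G} (hS : IsPGroup 2 S) (hE : Eight E)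
    (hES : E ≤ S) (hF : Eight F) (hFS : F ≤ S) : clo E = clo F := by
  obtain ⟨U, hUS, hU, hU4, -, hUi⟩ := exists_normalFour hS hE hES
  obtain ⟨-, -, -, -, h1⟩ := h.eight_over hU hU4.ge hUS hUi hE hES
  obtain ⟨-, -, -, -, h2⟩ := h.eight_over hU hU4.ge hUS hUi hF hFS
  rw [h1, h2]

end Elementary

end CfsgLib.Bender.Dichotomy
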